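import Groth.Agent.TorusMu.Weight
import Groth.Agent.GrpSchLib.Action
import Groth.Agent.GrpSchLib.UnitsScheme
import Groth.Prelude.Def_GmPts

/-! A connected group without characters has at most one linearisation on a line bundle over a reduced scheme. -/

universe u

open CategoryTheory CategoryTheory.Limits MonoidalCategory CartesianMonoidalCategory MonObj AlgebraicGeometry
  Opposite TopologicalSpace

set_option autoImplicit false
set_option maxHeartbeats 1000000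
set_option backward.isDefEq.respectTransparency false
set_option backward.isDefEq.respectTransparency.types false

noncomputable section

namespace Groth.Agent.TorusMu.LinUniq

variable {S : Scheme.{u}} {G X : Over S} [GrpObj G] {a : AlgGrp.Action G X} (B : GLinSh.LinBun G a)

/-- The linearity of the lifted action, evaluated at a point. -/
theorem val_act {U U' : X.left.Opens} {y : Γ(B.V.left, B.π.left ⁻¹ᵁ U)} {y' : Γ(B.V.left, B.π.left ⁻¹ᵁ U')}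
    {C : Γ((G ⊗ X).left, a.act.left ⁻¹ᵁ U' ⊓ (snd G X).left ⁻¹ᵁ U)}
    (hC : B.lift.act.left.appLE (B.π.left ⁻¹ᵁ U') (GLinSh.liftOpen a B.π U U')
        (GLinSh.liftOpen_le_act a B.π B.lift B.lift_π) y' =
      (G ◁ B.π).left.appLE _ (GLinSh.liftOpen a B.π U U') (GLinSh.liftOpen_le_base a B.π) C *
        (snd G B.V).left.appLE (B.π.left ⁻¹ᵁ U) (GLinSh.liftOpen a B.π U U') (GLinSh.liftOpen_le_snd a B.π) y)
    {T : Over S} (g : T ⟶ G) (x : T ⟶ X) (w : T ⟶ B.V) (hw : w ≫ B.π = x)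
    (hd : ⊤ ≤ (lift g x).left ⁻¹ᵁ (a.act.left ⁻¹ᵁ U' ⊓ (snd G X).left ⁻¹ᵁ U))
    (h₁ : ⊤ ≤ (lift g w ≫ B.lift.act).left ⁻¹ᵁ (B.π.left ⁻¹ᵁ U'))
    (h₂ : ⊤ ≤ w.left ⁻¹ᵁ (B.π.left ⁻¹ᵁ U)) :
    val (lift g w ≫ B.lift.act).left _ h₁ y' = val (lift g x).left _ hd C * val w.left _ h₂ y := by
  have hb : lift g w ≫ (G ◁ B.π) = lift g x := by rw [lift_whiskerLeft, hw]
  have h0 : ⊤ ≤ (lift g w).left ⁻¹ᵁ GLinSh.liftOpen a B.π U U' := fun t ht => by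
    show (lift g w ≫ (G ◁ B.π)).left t ∈ a.act.left ⁻¹ᵁ U' ⊓ (snd G X).left ⁻¹ᵁ U
    rw [hb]
    exact hd ht
  have key := congrArg (val (lift g w).left _ h0) hC
  rw [val_mul, val_appLE, val_appLE, val_appLE] at key
  refine key.trans (congrArg₂ (· * ·) ?_ ?_)
  · exact val_congr _ _ (by rw [← Over.comp_left, hb]) hd _
  · exact val_congr _ _ (by rw [← Over.comp_left, lift_snd]) h₂ _

/-- The coordinate of a translate of a point with invertible coordinate is invertible. -/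
theorem isUnit_val_act {U U' : X.left.Opens} {y : Γ(B.V.left, B.π.left ⁻¹ᵁ U)} {y' : Γ(B.V.left, B.π.left ⁻¹ᵁ U')}
    (hy : y ∈ B.atlas.chart U) (hy' : y' ∈ B.atlas.chart U') {T : Over S} (g : T ⟶ G) (w : T ⟶ B.V)
    (h₁ : ⊤ ≤ (lift g w ≫ B.lift.act).left ⁻¹ᵁ (B.π.left ⁻¹ᵁ U'))
    (h₂ : ⊤ ≤ w.left ⁻¹ᵁ (B.π.left ⁻¹ᵁ U)) (hu : IsUnit (val w.left _ h₂ y)) :
    IsUnit (val (lift g w ≫ B.lift.act).left _ h₁ y') := by
  obtain ⟨C, hC⟩ := B.lift_linear U' U y' y hy' hy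
  have hback : lift g⁻¹ (lift g w ≫ B.lift.act) ≫ B.lift.act = w := by
    rw [GrpSchLib.act_mul, inv_mul_cancel, GrpSchLib.act_one]
  have hd : ⊤ ≤ (lift g⁻¹ ((lift g w ≫ B.lift.act) ≫ B.π)).left ⁻¹ᵁ
      (a.act.left ⁻¹ᵁ U ⊓ (snd G X).left ⁻¹ᵁ U') := fun t ht => by
    refine ⟨?_, ?_⟩
    · show (lift g⁻¹ ((lift g w ≫ B.lift.act) ≫ B.π) ≫ a.act).left t ∈ U
      rw [← lift_whiskerLeft, Category.assoc, ← B.lift_π, ← Category.assoc, hback]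
      exact h₂ ht
    · show (lift g⁻¹ ((lift g w ≫ B.lift.act) ≫ B.π) ≫ snd G X).left t ∈ U'
      rw [lift_snd]
      exact h₁ ht
  have hb1 : ⊤ ≤ (lift g⁻¹ (lift g w ≫ B.lift.act) ≫ B.lift.act).left ⁻¹ᵁ (B.π.left ⁻¹ᵁ U) := by
    rw [hback]; exact h₂
  have h := val_act B hC g⁻¹ _ _ rfl hd hb1 h₁
  rw [val_congr_over hback hb1 h₂] at h
  exact isUnit_of_mul_isUnit_right (h ▸ hu)

/-- Ring maps out of the functions over a chart are determined on the base and the coordinate. -/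
theorem chart_hom_ext (c : Chart B) {T : Over S} {v w : T ⟶ B.V} (e : v ≫ B.π = w ≫ B.π)
    (hv : ⊤ ≤ v.left ⁻¹ᵁ (B.π.left ⁻¹ᵁ c.W)) (hw : ⊤ ≤ w.left ⁻¹ᵁ (B.π.left ⁻¹ᵁ c.W))
    (hy : val v.left _ hv c.yW = val w.left _ hw c.yW) : v = w := by
  refine Over.OverMorphism.ext (hom_ext_val c.affine' hv hw fun r => ?_)
  obtain ⟨p, rfl⟩ := c.bij.2 r
  induction p using Polynomial.induction_on' with
  | add p q hp hq => rw [map_add, val_add, val_add, hp, hq]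
  | monomial m d =>
    rw [Polynomial.coe_eval₂RingHom, Polynomial.eval₂_monomial, val_mul, val_mul, val_pow, val_pow, hy, val_app, val_app]
    exact congrArg (· * _) (val_congr _ _ (congrArg CommaMorphism.left e) _ _)

theorem val_yW (c : Chart B) {T : Scheme.{u}} (z : T ⟶ B.V.left) (h : ⊤ ≤ z ⁻¹ᵁ (B.π.left ⁻¹ᵁ c.W))
    (h' : ⊤ ≤ z ⁻¹ᵁ (B.π.left ⁻¹ᵁ c.U)) : val z _ h c.yW = val z _ h' c.y :=
  val_res z h' (B.π.left.preimage_mono c.le) h c.y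

section Field

variable {k : Type u} [Field k] [IsAlgClosed k]

omit [IsAlgClosed k] in
theorem top_of_mem {Z : Over (Spec (CommRingCat.of k))} (z : 𝟙_ (Over (Spec (CommRingCat.of k))) ⟶ Z)
    {U : Z.left.Opens} {t : (𝟙_ (Over (Spec (CommRingCat.of k)))).left} (h : z.left t ∈ U) : ⊤ ≤ z.left ⁻¹ᵁ U :=
  fun t' _ => show z.left t' ∈ U from (Subsingleton.elim (α := Spec (CommRingCat.of k)) t t') ▸ h

theorem exists_pt {Z : Over (Spec (CommRingCat.of k))} [LocallyOfFiniteType Z.hom] {w : Z.left} (hw : IsClosed {w}) :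
    ∃ z : 𝟙_ (Over (Spec (CommRingCat.of k))) ⟶ Z, ∀ t, z.left t = w := by
  obtain ⟨s, hs⟩ := GrpSchLib.exists_point_of_isClosed (k := k) (K := k) Z hw
  let e : 𝟙_ (Over (Spec (CommRingCat.of k))) ⟶ Over.mk (Spec.map (CommRingCat.ofHom (algebraMap k k))) :=
    Over.homMk (𝟙 (Spec (CommRingCat.of k))) (by
      show 𝟙 _ ≫ Spec.map (CommRingCat.ofHom (algebraMap k k)) = 𝟙 _
      simp)
  refine ⟨e ≫ s, fun t => ?_⟩
  rw [← hs, show t = IsLocalRing.closedPoint k from Subsingleton.elim (α := Spec (CommRingCat.of k)) _ _]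
  rfl

omit [IsAlgClosed k] in
theorem isUnit_of_ne_zero {r : Γ((𝟙_ (Over (Spec (CommRingCat.of k)))).left, ⊤)} (h : r ≠ 0) : IsUnit r := by
  let e := (Scheme.ΓSpecIso (CommRingCat.of k)).commRingCatIsoToRingEquiv
  have : e r ≠ 0 := fun h' => h (e.injective (h'.trans (map_zero e).symm))
  simpa using (this.isUnit).map e.symm

/-- Two sections agree as soon as they agree at all rational points. -/
theorem eq_of_forall_pt {Z : Over (Spec (CommRingCat.of k))} [IsReduced Z.left] [LocallyOfFiniteType Z.hom]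
    {O : Z.left.Opens} (r r' : Γ(Z.left, O))
    (H : ∀ (z : 𝟙_ (Over (Spec (CommRingCat.of k))) ⟶ Z) (h : ⊤ ≤ z.left ⁻¹ᵁ O),
      val z.left O h r = val z.left O h r') : r = r' := by
  haveI : JacobsonSpace Z.left := LocallyOfFiniteType.jacobsonSpace Z.hom
  rw [← sub_eq_zero]
  apply (basicOpen_eq_bot_iff _).mp
  by_contra hne
  obtain ⟨w, hw, hwc⟩ := nonempty_inter_closedPoints
    (TopologicalSpace.Opens.ne_bot_iff_nonempty _ |>.mp hne) (Z.left.basicOpen (r - r')).isOpen.isLocallyClosed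
  obtain ⟨z, hz⟩ := exists_pt hwc
  have hO : ⊤ ≤ z.left ⁻¹ᵁ O := fun t _ => show z.left t ∈ O from hz t ▸ Z.left.basicOpen_le _ hw
  have h1 : (IsLocalRing.closedPoint k) ∈
      (𝟙_ (Over (Spec (CommRingCat.of k)))).left.basicOpen (val z.left O hO (r - r')) := by
    rw [basicOpen_val]
    exact show z.left (IsLocalRing.closedPoint k) ∈ _ from (hz _).symm ▸ hw
  rw [show val z.left O hO (r - r') = 0 from (map_sub (z.left.appLE O ⊤ hO).hom r r').trans (sub_eq_zero.mpr (H z hO)),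
    Scheme.basicOpen_zero] at h1
  exact h1

/-- A section invertible at all rational points is invertible. -/
theorem isUnit_of_forall_pt {Z : Over (Spec (CommRingCat.of k))} [LocallyOfFiniteType Z.hom] (r : Γ(Z.left, ⊤))
    (H : ∀ z : 𝟙_ (Over (Spec (CommRingCat.of k))) ⟶ Z, IsUnit (z.left.appTop r)) : IsUnit r := by
  haveI : JacobsonSpace Z.left := LocallyOfFiniteType.jacobsonSpace Z.hom
  have htop : Z.left.basicOpen r = ⊤ := by
    by_contra hne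
    have hne' : ((Z.left.basicOpen r : Set Z.left)ᶜ).Nonempty :=
      Set.nonempty_compl.mpr fun h => hne (TopologicalSpace.Opens.ext h)
    obtain ⟨w, hw, hwc⟩ := nonempty_inter_closedPoints hne' (Z.left.basicOpen r).isOpen.isClosed_compl.isLocallyClosed
    obtain ⟨z, hz⟩ := exists_pt hwc
    have h1 : z.left ⁻¹ᵁ Z.left.basicOpen r = ⊤ := by
      rw [Scheme.preimage_basicOpen_top, Scheme.basicOpen_of_isUnit _ (H z)]
    exact hw (hz (IsLocalRing.closedPoint k) ▸ (h1.ge (Set.mem_univ (IsLocalRing.closedPoint k))))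
  refine Z.left.toRingedSpace.isUnit_of_isUnit_germ ⊤ r fun x hx => ?_
  exact (Scheme.mem_basicOpen _ r x hx).mp (htop.ge hx)

variable {G X V : Over (Spec (CommRingCat.of k))} [GrpObj G] {a : AlgGrp.Action G X} {π : V ⟶ X}
  (A : GLinSh.LinAtlas π) (Φ₁ Φ₂ : AlgGrp.Action G V) (h₁ : Φ₁.act ≫ π = (G ◁ π) ≫ a.act)
  (h₂ : Φ₂.act ≫ π = (G ◁ π) ≫ a.act) (hl₁ : GLinSh.IsLinearLift a π Φ₁ A.chart h₁)
  (hl₂ : GLinSh.IsLinearLift a π Φ₂ A.chart h₂)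

include h₁ h₂ hl₁ hl₂ in
/-- Without characters, the two lifts agree on rational points of coordinate one. -/
theorem lift_pt_eq [Smooth G.hom] [LocallyOfFiniteType G.hom] [QuasiCompact G.hom] [ConnectedSpace G.left]
    (hχ : ∀ (χ : G ⟶ Red.Gm (Spec (CommRingCat.of k))) [IsMonHom χ], χ = 1)
    (c : Chart (⟨V, π, A, Φ₁, h₁, hl₁⟩ : GLinSh.LinBun G a)) (g₀ : 𝟙_ (Over (Spec (CommRingCat.of k))) ⟶ G)
    (v : 𝟙_ (Over (Spec (CommRingCat.of k))) ⟶ V) (hv : ⊤ ≤ v.left ⁻¹ᵁ (π.left ⁻¹ᵁ c.W))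
    (hy : val v.left _ hv c.yW = 1) :
    lift g₀ v ≫ Φ₁.act = lift g₀ v ≫ Φ₂.act := by
  let B₁ : GLinSh.LinBun G a := ⟨V, π, A, Φ₁, h₁, hl₁⟩
  let B₂ : GLinSh.LinBun G a := ⟨V, π, A, Φ₂, h₂, hl₂⟩
  let σ : G ⟶ V := lift (𝟙 G)⁻¹ (lift (𝟙 G) (toUnit G ≫ v) ≫ Φ₁.act) ≫ Φ₂.act
  have hσπ : σ ≫ π = toUnit G ≫ (v ≫ π) := by
    simp only [σ, Category.assoc, h₂, lift_whiskerLeft_assoc, h₁]
    rw [GrpSchLib.act_mul, inv_mul_cancel, GrpSchLib.act_one]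
  have hσ : ⊤ ≤ σ.left ⁻¹ᵁ (π.left ⁻¹ᵁ c.W) := fun t _ => by
    show (σ ≫ π).left t ∈ c.W
    rw [hσπ]
    exact hv (Set.mem_univ ((toUnit G).left t))
  let ψ : Γ(G.left, ⊤) := val σ.left _ hσ c.yW
  have hcomp : ∀ (g : 𝟙_ (Over (Spec (CommRingCat.of k))) ⟶ G),
      g ≫ σ = lift g⁻¹ (lift g v ≫ Φ₁.act) ≫ Φ₂.act := fun g => by
    simp only [σ, comp_lift_assoc, GrpObj.comp_inv, Category.comp_id]
    rw [← Category.assoc g (toUnit G) v, toUnit_unique (g ≫ toUnit G) (𝟙 _), Category.id_comp]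
  have hz : ∀ (g : 𝟙_ (Over (Spec (CommRingCat.of k))) ⟶ G) (h : ⊤ ≤ (g ≫ σ).left ⁻¹ᵁ (π.left ⁻¹ᵁ c.W)),
      g.left.appTop ψ = val (g ≫ σ).left _ h c.yW := fun g h => (val_comp σ.left hσ g.left h c.yW).symm
  have hψu : IsUnit ψ := isUnit_of_forall_pt ψ fun g => by
    have hg : ⊤ ≤ (g ≫ σ).left ⁻¹ᵁ (π.left ⁻¹ᵁ c.W) := fun t _ => hσ (Set.mem_univ (g.left t))
    rw [hz g hg]
    obtain ⟨d, hd, -⟩ := exists_chart B₁
      (show ((lift g v ≫ Φ₁.act) ≫ π).left (IsLocalRing.closedPoint k) ∈ (⊤ : X.left.Opens) from trivial)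
    have hd' : ⊤ ≤ (lift g v ≫ Φ₁.act).left ⁻¹ᵁ (π.left ⁻¹ᵁ d.U) :=
      top_of_mem (lift g v ≫ Φ₁.act) (show (lift g v ≫ Φ₁.act).left _ ∈ π.left ⁻¹ᵁ d.U from d.le hd)
    have hvU : ⊤ ≤ v.left ⁻¹ᵁ (π.left ⁻¹ᵁ c.U) := fun t ht => c.le (hv ht)
    have u1 := isUnit_val_act B₁ c.mem d.mem g v hd' hvU (by
      rw [← val_yW B₁ c v.left hv hvU, hy]; exact isUnit_one)
    have hgU : ⊤ ≤ (lift g⁻¹ (lift g v ≫ Φ₁.act) ≫ Φ₂.act).left ⁻¹ᵁ (π.left ⁻¹ᵁ c.U) := fun t ht => by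
      rw [← hcomp]
      exact c.le (hg ht)
    have u2 := isUnit_val_act B₂ d.mem c.mem g⁻¹ (lift g v ≫ Φ₁.act) hgU hd' u1
    rw [val_yW B₁ c (g ≫ σ).left hg (fun t ht => c.le (hg ht)),
      val_congr_over (hcomp g) _ hgU]
    exact u2
  have hσ1 : (1 : 𝟙_ (Over (Spec (CommRingCat.of k))) ⟶ G) ≫ σ = v := by
    rw [hcomp, inv_one, GrpSchLib.act_one, GrpSchLib.act_one]
  have hψ1 : η[G].left.appTop ψ = 1 := by
    rw [show (η[G] : 𝟙_ (Over (Spec (CommRingCat.of k))) ⟶ G) = 1 by rw [Hom.one_def, toUnit_unit, Category.id_comp],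
      hz _ (hσ1.symm ▸ hv), val_congr_over hσ1 _ hv, hy]
  have hmul := GrpSchLib.Kunneth.unit_isChar hψu ((GrpSchLib.Kunneth.evPt_eq_one_iff _ ψ).mpr hψ1)
  let χ : G ⟶ Red.Gm (Spec (CommRingCat.of k)) := GmPts.ptOfUnit hψu.unit
  have hχv : GmPts.unitOfPt χ = hψu.unit := GmPts.unitOfPt_ptOfUnit _
  haveI : IsMonHom χ :=
    { one_hom := by
        refine GmPts.gmFn_injective ?_
        show Red.gmFn (η[G] ≫ χ) = Red.gmFn η[Red.Gm (Spec (CommRingCat.of k))]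
        rw [show (η[Red.Gm (Spec (CommRingCat.of k))] : 𝟙_ _ ⟶ _) = 1 by rw [Hom.one_def, toUnit_unit, Category.id_comp],
          GmPts.gmFn_one, GmPts.gmFn_comp, ← GmPts.val_unitOfPt, hχv, IsUnit.unit_spec]
        exact hψ1
      mul_hom := by
        refine GmPts.gmFn_injective ?_
        show Red.gmFn (μ[G] ≫ χ) = Red.gmFn ((χ ⊗ₘ χ) ≫ μ[Red.Gm (Spec (CommRingCat.of k))])
        rw [show (χ ⊗ₘ χ) ≫ μ[Red.Gm (Spec (CommRingCat.of k))] = (fst G G ≫ χ) * (snd G G ≫ χ) by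
            rw [Hom.mul_def, lift_fst_comp_snd_comp],
          GmPts.gmFn_mul, GmPts.gmFn_comp, GmPts.gmFn_comp, GmPts.gmFn_comp, ← GmPts.val_unitOfPt, hχv,
          IsUnit.unit_spec]
        exact hmul }
  have hψone : ψ = 1 := by
    have h := congrArg Units.val (congrArg GmPts.unitOfPt (hχ χ))
    rwa [hχv, GmPts.unitOfPt_one, IsUnit.unit_spec, Units.val_one] at h
  have hg₀ : ⊤ ≤ (g₀ ≫ σ).left ⁻¹ᵁ (π.left ⁻¹ᵁ c.W) := fun t _ => hσ (Set.mem_univ (g₀.left t))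
  have heq : g₀ ≫ σ = v := by
    refine chart_hom_ext B₁ c ?_ hg₀ hv ?_
    · show (g₀ ≫ σ) ≫ π = v ≫ π
      rw [Category.assoc, hσπ, ← Category.assoc, toUnit_unique (g₀ ≫ toUnit G) (𝟙 _), Category.id_comp]
    · rw [← hz g₀ hg₀, hψone, map_one, hy]
  calc lift g₀ v ≫ Φ₁.act
      = lift g₀ (lift g₀⁻¹ (lift g₀ v ≫ Φ₁.act) ≫ Φ₂.act) ≫ Φ₂.act := by
        rw [GrpSchLib.act_mul, mul_inv_cancel, GrpSchLib.act_one]
    _ = lift g₀ v ≫ Φ₂.act := by rw [← hcomp g₀, heq]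

include h₁ h₂ hl₁ hl₂ in
theorem act_eq [Smooth G.hom] [LocallyOfFiniteType G.hom] [QuasiCompact G.hom] [ConnectedSpace G.left]
    (hχ : ∀ (χ : G ⟶ Red.Gm (Spec (CommRingCat.of k))) [IsMonHom χ], χ = 1)
    [LocallyOfFiniteType X.hom] [IsReduced (G ⊗ X).left] : Φ₁.act = Φ₂.act := by
  let B₁ : GLinSh.LinBun G a := ⟨V, π, A, Φ₁, h₁, hl₁⟩
  let B₂ : GLinSh.LinBun G a := ⟨V, π, A, Φ₂, h₂, hl₂⟩
  haveI : LocallyOfFiniteType (G ⊗ X).hom :=
    inferInstanceAs (LocallyOfFiniteType (pullback.fst G.hom X.hom ≫ G.hom))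
  let O : Chart B₁ × Chart B₁ → (G ⊗ V).left.Opens := fun p => GLinSh.liftOpen a π p.1.W p.2.W
  refine Over.OverMorphism.ext (Scheme.Cover.hom_ext (((G ⊗ V).left.openCoverOfIsOpenCover O ?_)) _ _ fun p => ?_)
  · refine TopologicalSpace.IsOpenCover.of_sets _ ?_
    refine Set.iUnion_eq_univ_iff.mpr fun z => ?_
    obtain ⟨c, hc, -⟩ := exists_chart B₁
      (show ((G ◁ π) ≫ snd G X).left z ∈ (⊤ : X.left.Opens) from trivial)
    obtain ⟨d, hd, -⟩ := exists_chart B₁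
      (show ((G ◁ π) ≫ a.act).left z ∈ (⊤ : X.left.Opens) from trivial)
    exact ⟨(c, d), hd, hc⟩
  · obtain ⟨c, d⟩ := p
    obtain ⟨C₁, hC₁⟩ := hl₁ c.U d.U c.y d.y c.mem d.mem
    obtain ⟨C₂, hC₂⟩ := hl₂ c.U d.U c.y d.y c.mem d.mem
    let dom := a.act.left ⁻¹ᵁ d.U ⊓ (snd G X).left ⁻¹ᵁ c.U
    let dom' : (G ⊗ X).left.Opens := a.act.left ⁻¹ᵁ d.W ⊓ (snd G X).left ⁻¹ᵁ c.W
    have hle : dom' ≤ dom := inf_le_inf ((Scheme.Hom.preimage_mono _ d.le)) (Scheme.Hom.preimage_mono _ c.le)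
    have hCC : (G ⊗ X).left.presheaf.map (homOfLE hle).op C₁ = (G ⊗ X).left.presheaf.map (homOfLE hle).op C₂ := by
      refine eq_of_forall_pt _ _ fun z hz => ?_
      have hzd : ⊤ ≤ z.left ⁻¹ᵁ dom := fun t ht => hle (hz ht)
      rw [val_res z.left hzd hle, val_res z.left hzd hle]
      obtain ⟨s, hs0, hsπ, hsv⟩ := Chart.exists_section c
      have hx : ⊤ ≤ (z ≫ snd G X).left ⁻¹ᵁ c.W := fun t ht => (hz ht).2
      let x' : 𝟙_ (Over (Spec (CommRingCat.of k))) ⟶ sub c.W := Over.homMk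
        (IsOpenImmersion.lift c.W.ι (z ≫ snd G X).left (by
          rintro _ ⟨t, rfl⟩; exact (Scheme.Opens.range_ι c.W).ge (hx (Set.mem_univ t)))) (by
          show IsOpenImmersion.lift _ _ _ ≫ c.W.ι ≫ X.hom = _
          rw [IsOpenImmersion.lift_fac_assoc, Over.w])
      have hx' : x' ≫ incl c.W = z ≫ snd G X := Over.OverMorphism.ext (IsOpenImmersion.lift_fac _ _ _)
      let v : 𝟙_ (Over (Spec (CommRingCat.of k))) ⟶ V := x' ≫ s
      have hvπ : v ≫ π = z ≫ snd G X := by rw [Category.assoc, hsπ, hx']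
      have hvW : ⊤ ≤ v.left ⁻¹ᵁ (π.left ⁻¹ᵁ c.W) := fun t ht => hs0 (Set.mem_univ _)
      have hvy : val v.left _ hvW c.yW = 1 := by
        exact (val_comp s.left hs0 x'.left hvW c.yW).trans ((congrArg _ hsv).trans (map_one _))
      have key := lift_pt_eq A Φ₁ Φ₂ h₁ h₂ hl₁ hl₂ hχ c (z ≫ fst G X) v hvW hvy
      have hzl : lift (z ≫ fst G X) (z ≫ snd G X) = z := by rw [← comp_lift, lift_fst_snd, Category.comp_id]
      have hd' : ⊤ ≤ (lift (z ≫ fst G X) (z ≫ snd G X)).left ⁻¹ᵁ dom := by rw [hzl]; exact hzd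
      have e1 : ⊤ ≤ (lift (z ≫ fst G X) v ≫ Φ₁.act).left ⁻¹ᵁ (π.left ⁻¹ᵁ d.U) := fun t ht => by
        show ((lift (z ≫ fst G X) v ≫ Φ₁.act) ≫ π).left t ∈ d.U
        rw [Category.assoc, h₁, lift_whiskerLeft_assoc, hvπ]
        exact (hd' ht).1
      have e2 : ⊤ ≤ (lift (z ≫ fst G X) v ≫ Φ₂.act).left ⁻¹ᵁ (π.left ⁻¹ᵁ d.U) := by rw [← key]; exact e1
      have hvU : ⊤ ≤ v.left ⁻¹ᵁ (π.left ⁻¹ᵁ c.U) := fun t ht => c.le (hvW ht)
      have f1 := val_act B₁ hC₁ (z ≫ fst G X) (z ≫ snd G X) v hvπ hd' e1 hvU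
      have f2 := val_act B₂ hC₂ (z ≫ fst G X) (z ≫ snd G X) v hvπ hd' e2 hvU
      rw [← val_yW B₁ c v.left hvW hvU, hvy, _root_.mul_one] at f1 f2
      rw [← val_congr_over hzl hd' hzd C₁, ← val_congr_over hzl hd' hzd C₂, ← f1, ← f2]
      exact val_congr_over key e1 e2 _
    let ι' : sub (O (c, d)) ⟶ G ⊗ V := incl (O (c, d))
    have hO : ⊤ ≤ ι'.left ⁻¹ᵁ O (c, d) := fun t _ => t.2
    have hι : ι' = lift (ι' ≫ fst G V) (ι' ≫ snd G V) := by rw [← comp_lift, lift_fst_snd, Category.comp_id]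
    set g := ι' ≫ fst G V
    set w := ι' ≫ snd G V
    have hbase : lift g (w ≫ π) = ι' ≫ (G ◁ π) := by rw [hι, lift_whiskerLeft]
    have hd' : ⊤ ≤ (lift g (w ≫ π)).left ⁻¹ᵁ dom := fun t ht => by
      rw [hbase]
      exact hle (show (G ◁ π).left (ι'.left t) ∈ dom' from hO ht)
    have hwW : ⊤ ≤ w.left ⁻¹ᵁ (π.left ⁻¹ᵁ c.W) := fun t ht => by
      show (ι' ≫ snd G V ≫ π).left t ∈ c.W
      rw [← whiskerLeft_snd]
      exact (hO ht).2
    have eW : ∀ (Φ : AlgGrp.Action G V), Φ.act ≫ π = (G ◁ π) ≫ a.act →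
        ⊤ ≤ (lift g w ≫ Φ.act).left ⁻¹ᵁ (π.left ⁻¹ᵁ d.W) := fun Φ hΦ t ht => by
      show ((lift g w ≫ Φ.act) ≫ π).left t ∈ d.W
      rw [Category.assoc, hΦ, ← hι]
      exact (hO ht).1
    show ι'.left ≫ Φ₁.act.left = ι'.left ≫ Φ₂.act.left
    rw [← Over.comp_left, ← Over.comp_left, hι]
    refine congrArg CommaMorphism.left (chart_hom_ext B₁ d ?_ (eW Φ₁ h₁) (eW Φ₂ h₂) ?_)
    · show (lift g w ≫ Φ₁.act) ≫ π = (lift g w ≫ Φ₂.act) ≫ π
      rw [Category.assoc, Category.assoc, h₁, h₂]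
    · rw [val_yW B₁ d _ (eW Φ₁ h₁) (fun t ht => d.le (eW Φ₁ h₁ ht)),
        val_yW B₁ d _ (eW Φ₂ h₂) (fun t ht => d.le (eW Φ₂ h₂ ht)),
        val_act B₁ hC₁ g (w ≫ π) w rfl hd' _ (fun t ht => c.le (hwW ht)),
        val_act B₂ hC₂ g (w ≫ π) w rfl hd' _ (fun t ht => c.le (hwW ht))]
      have hd'' : ⊤ ≤ (lift g (w ≫ π)).left ⁻¹ᵁ dom' := fun t ht => by rw [hbase]; exact hO ht
      rw [← val_res (lift g (w ≫ π)).left hd' hle hd'' C₁, hCC, val_res (lift g (w ≫ π)).left hd' hle hd'' C₂]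

end Field

end Groth.Agent.TorusMu.LinUniq

end
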