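import Groth.Agent.TorusMu.Exp
import Groth.Agent.H23.RatExtend
import Groth.Agent.MagnetLib.Mono
import Groth.Agent.HMTransLib.Limit

/-! Limits of one-parameter orbits in proper schemes exist. -/

universe u

open CategoryTheory CategoryTheory.Limits MonoidalCategory CartesianMonoidalCategory MonObj AlgebraicGeometry
  Opposite Magnet TopologicalSpace

noncomputable section

namespace Groth.Agent.TorusMu

open H23.CharPts H28.MagnetAff

/-- The monoid of non-negative integers. -/
def plusEquiv : ℕ ≃+ HMNum.plus where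
  toFun n := ⟨(n : ℤ), (HMNum.mem_plus_iff _).2 (by omega)⟩
  invFun n := (n : ℤ).toNat
  left_inv n := by simp
  right_inv n := Subtype.ext (Int.toNat_of_nonneg ((HMNum.mem_plus_iff _).1 n.2))
  map_add' m n := Subtype.ext (by simp)

/-- Clearing denominators in Laurent polynomials. -/
theorem exists_mul_eq_mapDomain {R : Type u} [CommRing R] (b : MonoidAlgebra R (Multiplicative ℤ)) :
    ∃ (n : ℤ) (p : MonoidAlgebra R (Multiplicative HMNum.plus)),
      MonoidAlgebra.mapDomainRingHom R (AddMonoidHom.toMultiplicative HMNum.plus.subtype) p =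
        MonoidAlgebra.single (Multiplicative.ofAdd n) 1 * b := by
  classical
  let n : ℤ := ∑ m ∈ b.coeff.support, |m.toAdd|
  refine ⟨n, ∑ m ∈ b.coeff.support, if h : n + m.toAdd ∈ HMNum.plus then
    MonoidAlgebra.single (Multiplicative.ofAdd (⟨_, h⟩ : HMNum.plus)) (b.coeff m) else 0, ?_⟩
  conv_rhs => rw [← MonoidAlgebra.sum_coeff_single b, Finsupp.sum, Finset.mul_sum]
  rw [map_sum]
  refine Finset.sum_congr rfl fun m hm => ?_
  have h : n + m.toAdd ∈ HMNum.plus := (HMNum.mem_plus_iff _).2 (by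
    have := Finset.single_le_sum (f := fun m : Multiplicative ℤ => |m.toAdd|) (fun _ _ => abs_nonneg _) hm
    have := neg_abs_le m.toAdd
    simp only [n]
    omega)
  rw [dif_pos h, MonoidAlgebra.mapDomainRingHom_apply, MonoidAlgebra.mapDomain_single,
    MonoidAlgebra.single_mul_single, _root_.one_mul]
  rfl

variable {k : Type u} [Field k]

/-- Limits exist for proper schemes. -/
theorem exists_isLimitPt {G X : Over (Sp k)} [GrpObj G] [IsProper X.hom] (a : AlgGrp.Action G X)
    (l : Red.Gm (Sp k) ⟶ G) [IsMonHom l] (x : pt k ⟶ X) : ∃ y : pt k ⟶ X, HMNum.IsLimitPt a l x y := by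
  classical
  haveI : IsAffine (pt k).left := inferInstanceAs (IsAffine (Spec (CommRingCat.of k)))
  haveI : X.left.IsSeparated := by
    rw [Scheme.isSeparated_iff, show terminal.from X.left = X.hom ≫ terminal.from (Sp k) from terminal.hom_ext _ _]
    infer_instance
  let A := AMonS (Sp k) HMNum.plus
  let P := A ⊗ pt k
  haveI : IsAffine P.left := (theta_iso HMNum.plus (pt k)).1
  let R := RR (pt k)
  let eR : R ≃+* k := (Scheme.ΓSpecIso (CommRingCat.of k)).commRingCatIsoToRingEquiv
  let e1 : MonoidAlgebra R (Multiplicative HMNum.plus) ≃+* Γ(P.left, ⊤) := thetaEquiv (pt k) HMNum.plus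
  let e2 : MonoidAlgebra R (Multiplicative HMNum.plus) ≃+* Polynomial k :=
    (MonoidAlgebra.mapRingEquiv _ eR).trans
      ((MonoidAlgebra.domCongr k k (AddEquiv.toMultiplicative plusEquiv.symm)).toRingEquiv.trans
        ((AddMonoidAlgebra.toMultiplicative k ℕ).symm.trans (Polynomial.toFinsuppIso k).symm))
  let e : Polynomial k ≃+* Γ(P.left, ⊤) := e2.symm.trans e1
  haveI hdom : IsDomain Γ(P.left, ⊤) := e.symm.injective.isDomain e.symm.toRingHom
  haveI hpid : IsPrincipalIdealRing Γ(P.left, ⊤) := IsPrincipalIdealRing.of_surjective e.toRingHom e.surjective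
  haveI hPi : IsIntegral P.left := by
    haveI : IsIntegral (Spec Γ(P.left, ⊤)) := inferInstance
    exact IsIntegral.of_isIso P.left.isoSpec.inv
  have hval : ∀ p : P.left, ValuationRing (P.left.presheaf.stalk p) := fun p => by
    let y : Spec Γ(P.left, ⊤) := P.left.isoSpec.hom p
    haveI : ValuationRing (Localization.AtPrime (y : PrimeSpectrum Γ(P.left, ⊤)).asIdeal) :=
      H23.RatExtend.valuationRing_atPrime _
    haveI : IsDomain (Localization.AtPrime (y : PrimeSpectrum Γ(P.left, ⊤)).asIdeal) :=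
      IsLocalization.isDomain_localization (Ideal.primeCompl_le_nonZeroDivisors _)
    let q : Localization.AtPrime (y : PrimeSpectrum Γ(P.left, ⊤)).asIdeal ≃+*
        (Spec Γ(P.left, ⊤)).presheaf.stalk y := (StructureSheaf.stalkIso Γ(P.left, ⊤) y).toRingEquiv
    exact H23.RatExtend.valuationRing_of_ringEquiv
      (q.trans (asIso (P.left.isoSpec.hom.stalkMap p)).commRingCatIsoToRingEquiv)
  let η₀ := P.left.fromSpecStalk (genericPoint P.left)
  let T₀ : Over (Sp k) := Over.mk (η₀ ≫ P.hom)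
  let u₀ : T₀ ⟶ P := Over.homMk η₀ rfl
  have hinjη : Function.Injective η₀.appTop := by
    intro r r' h
    have key : η₀.appTop = P.left.presheaf.germ ⊤ (genericPoint P.left) trivial ≫ (Scheme.ΓSpecIso _).inv := by
      rw [Scheme.fromSpecStalk_appTop, ← Category.assoc]
      exact (congrArg (_ ≫ ·) (CategoryTheory.Functor.map_id _ _)).trans (Category.comp_id _)
    rw [key, CommRingCat.comp_apply, CommRingCat.comp_apply] at h
    exact germ_injective_of_isIntegral (X := P.left) (U := ⊤) (genericPoint P.left) trivial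
      ((ConcreteCategory.bijective_of_isIso (Scheme.ΓSpecIso _).inv).1 h)
  let z : Multiplicative HMNum.plus := Multiplicative.ofAdd (plusEquiv 1)
  let u : Γ(T₀.left, ⊤) := chi (u₀ ≫ fst A (pt k)) z
  let K := P.left.presheaf.stalk (genericPoint P.left)
  have hu : IsUnit u := by
    have h0 : theta HMNum.plus (pt k) (MonoidAlgebra.single z 1) = chi (fst A (pt k)) z := by
      rw [theta_single, map_one, _root_.one_mul]
    have hne : chi (fst A (pt k)) z ≠ 0 := by
      rw [← h0, ← map_zero (theta HMNum.plus (pt k))]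
      intro hz
      have h2 := congrArg (fun q => q.coeff z) ((theta_iso HMNum.plus (pt k)).2.1 hz)
      haveI := isDomain_pt k
      simp at h2
    have hne' : u ≠ 0 := by
      simp only [u, chi_comp]
      rw [← map_zero η₀.appTop.hom]
      exact fun h => hne (hinjη h)
    have hK : IsUnit ((Scheme.ΓSpecIso K).hom u) :=
      isUnit_iff_ne_zero.2 fun h => hne' ((ConcreteCategory.bijective_of_isIso (Scheme.ΓSpecIso K).hom).1
        (h.trans (map_zero _).symm))
    have := hK.map (Scheme.ΓSpecIso K).inv.hom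
    rwa [← CommRingCat.comp_apply, Iso.hom_inv_id] at this
  let v : T₀ ⟶ Red.Gm (Sp k) := GmPts.ptOfUnit hu.unit
  have hv : v ≫ HMNum.incl (Sp k) = u₀ ≫ fst A (pt k) := by
    refine chi_injective (MonoidHom.ext fun m => ?_)
    obtain ⟨n, hn⟩ := plusEquiv.surjective m.toAdd
    obtain rfl : m = z ^ n := by
      apply Multiplicative.toAdd.injective
      rw [toAdd_pow, toAdd_ofAdd, ← map_nsmul, ← hn, nsmul_one, Nat.cast_id]
    rw [map_pow, map_pow]
    congr 1
    rw [chi_map]
    change ((GmPts.unitOfPt v : (Γ(T₀.left, ⊤))ˣ) : Γ(T₀.left, ⊤)) = u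
    rw [GmPts.unitOfPt_ptOfUnit]
    rfl
  let orb : Red.Gm (Sp k) ⊗ pt k ⟶ X := lift (fst _ _ ≫ l) (snd _ _ ≫ x) ≫ a.act
  haveI : IsAffine T₀.left := inferInstanceAs (IsAffine (Spec (P.left.presheaf.stalk (genericPoint P.left))))
  let φ₀ : T₀ ⟶ X := lift v (u₀ ≫ snd A (pt k)) ≫ orb
  have h₀ : φ₀.left ≫ X.hom = η₀ ≫ P.hom := Over.w φ₀
  obtain ⟨W, hgW, H, hT, hH, hH₀⟩ := H23.RatExtend.extend P.hom X.hom φ₀.left h₀ Set.univ
    (fun p _ => H23.RatExtend.exists_lift P.hom X.hom φ₀.left h₀ p (hval p))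
  obtain rfl : W = ⊤ := top_unique fun p _ => hT (Set.mem_univ p)
  let φ : A ⊗ pt k ⟶ X := Over.homMk (P.left.topIso.inv ≫ H) (by
    rw [Category.assoc, hH, ← Category.assoc,
      show P.left.topIso.inv ≫ (⊤ : P.left.Opens).ι = 𝟙 P.left from P.left.topIso.inv_hom_id]
    exact Category.id_comp _)
  have hφ₀ : u₀ ≫ φ = φ₀ := Over.OverMorphism.ext (by
    show η₀ ≫ P.left.topIso.inv ≫ H = φ₀.left
    rw [← hH₀, ← Category.assoc]
    congr 1
    rw [← cancel_mono (⊤ : P.left.Opens).ι, Category.assoc,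
      show P.left.topIso.inv ≫ (⊤ : P.left.Opens).ι = 𝟙 P.left from P.left.topIso.inv_hom_id,
      Category.comp_id, Scheme.Opens.fromSpecStalkOfMem_ι])
  haveI : IsAffine (Red.Gm (Sp k) ⊗ pt k).left := (theta_iso ℤ (pt k)).1
  have hinjGm : Function.Injective (lift v (u₀ ≫ snd A (pt k))).left.appTop := by
    refine (injective_iff_map_eq_zero _).2 fun r hr => ?_
    obtain ⟨b, rfl⟩ := (theta_iso ℤ (pt k)).2.2 r
    obtain ⟨n, p, hp⟩ := exists_mul_eq_mapDomain b
    have e3 : lift v (u₀ ≫ snd A (pt k)) ≫ (HMNum.incl (Sp k) ▷ pt k) = u₀ := by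
      rw [lift_whiskerRight, hv, ← comp_lift, lift_fst_snd, Category.comp_id]
    have h4 := congrArg (lift v (u₀ ≫ snd A (pt k))).left.appTop
      (RingHom.congr_fun (theta_map (pt k) HMNum.plus.subtype) p)
    rw [RingHom.comp_apply, RingHom.comp_apply, hp, map_mul, map_mul, hr, mul_zero] at h4
    have h5 : η₀.appTop (theta HMNum.plus (pt k) p) = 0 := by
      have e4 : (lift v (u₀ ≫ snd A (pt k))).left ≫ (HMNum.incl (Sp k) ▷ pt k).left = η₀ := by
        rw [← Over.comp_left, e3]
        rfl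
      rw [← e4, Scheme.Hom.comp_appTop, CommRingCat.comp_apply]
      exact h4
    have hp0 : p = 0 := (theta_iso HMNum.plus (pt k)).2.1 ((hinjη (h5.trans (map_zero _).symm)).trans (map_zero _).symm)
    rw [hp0, map_zero] at hp
    have hb : b = 0 := by
      have := congrArg (MonoidAlgebra.single (Multiplicative.ofAdd (-n)) (1 : R) * ·) hp
      simp only [mul_zero, ← _root_.mul_assoc, MonoidAlgebra.single_mul_single, _root_.one_mul] at this
      rw [← ofAdd_add, neg_add_cancel, ofAdd_zero, ← MonoidAlgebra.one_def, _root_.one_mul] at this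
      exact this.symm
    rw [hb, map_zero]
  have horb : (HMNum.incl (Sp k) ▷ pt k) ≫ φ = orb := by
    refine Over.OverMorphism.ext (MagnetLib.ext_of_appTop_injective X.hom ?_ (lift v (u₀ ≫ snd A (pt k))).left hinjGm ?_)
    · rw [Over.w, Over.w]
    · rw [← Over.comp_left, ← Over.comp_left, ← Category.assoc, lift_whiskerRight, hv, ← comp_lift,
        lift_fst_snd, Category.comp_id, hφ₀]
  have horb' : ∀ {T : Over (Sp k)} (s : T ⟶ Red.Gm (Sp k)) (t : T ⟶ pt k),
      lift (s ≫ HMNum.incl (Sp k)) t ≫ φ = lift (s ≫ l) (t ≫ x) ≫ a.act := by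
    intro T s t
    rw [← lift_whiskerRight, Category.assoc, horb]
    simp only [orb, ← Category.assoc, comp_lift, lift_fst, lift_snd]
  let F1 : HMNum.A1 (Sp k) ⊗ Red.Gm (Sp k) ⟶ X :=
    lift (lift (snd _ _) (fst _ _) ≫ (Magnet.subAct (Sp k) ℤ HMNum.plus).act) (toUnit _) ≫ φ
  let F2 : HMNum.A1 (Sp k) ⊗ Red.Gm (Sp k) ⟶ X :=
    lift (snd _ _ ≫ l) (lift (fst _ _) (toUnit _) ≫ φ) ≫ a.act
  have hF : F1 = F2 := by
    refine MagnetLib.ext_of_AMonS_map HMNum.plus.subtype Subtype.val_injective (Red.Gm (Sp k)) _ _ ?_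
    apply hom_ext_lift₂
    intro T s' u'
    rw [lift_whiskerRight_assoc, lift_whiskerRight_assoc]
    simp only [F1, F2, ← Category.assoc, comp_lift, lift_fst, lift_snd, comp_toUnit]
    have e : lift u' (s' ≫ Magnet.AMonS.map (Sp k) HMNum.plus.subtype) ≫ (Magnet.subAct (Sp k) ℤ HMNum.plus).act =
        (u' * s') ≫ HMNum.incl (Sp k) := by
      rw [Magnet.subAct, Magnet.MonAct.lift_restrict_act, Magnet.MonAct.lift_regular_act, MonObj.mul_comp]
    rw [e, horb', horb', GrpSchLib.act_mul, MonObj.mul_comp]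
  refine ⟨lift (toUnit (pt k) ≫ HMNum.origin (Sp k)) (𝟙 _) ≫ φ, ⟨φ, ?_⟩, ?_, HMNum.limitPt_eq _⟩
  · rw [Magnet.MonAct.mem_eqvHom_iff]
    intro T s b t
    rw [Magnet.MonAct.lift_restrict_act, Magnet.MonAct.ofAction_act]
    have := congrArg (fun F => lift b s ≫ F) hF
    simp only [F1, F2, ← Category.assoc, comp_lift, lift_fst, lift_snd, comp_toUnit] at this
    rw [show t = toUnit T from Subsingleton.elim _ _]
    exact this
  · simp only [Magnet.MonAct.eqvHom.evalAt_app]
    have e : (1 : pt k ⟶ Red.Gm (Sp k)) ≫ HMNum.incl (Sp k) = toUnit _ ≫ η[HMNum.A1 (Sp k)] := by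
      rw [MonObj.one_comp, Hom.one_def]
    rw [← e]
    refine (horb' 1 (𝟙 _)).trans ?_
    rw [MonObj.one_comp, Category.id_comp, GrpSchLib.act_one]

end Groth.Agent.TorusMu
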