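import Groth.Agent.TorusMu.Mu
import Groth.Agent.TorusMu.Limit
import Groth.Agent.Deform.TorusAlg

/-! The numerical function on a torus is a maximum of linear forms, and is subadditive. -/

universe u

open CategoryTheory CategoryTheory.Limits MonoidalCategory CartesianMonoidalCategory MonObj AlgebraicGeometry
  Opposite Magnet TopologicalSpace

noncomputable section

namespace Groth.Agent.TorusMu

variable {k : Type u} [Field k]

theorem isMu_congr {G X : Over (Sp k)} [GrpObj G] {a : AlgGrp.Action G X} (B : GLinSh.LinBun G a)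
    {l l' : Red.Gm (Sp k) ⟶ G} [IsMonHom l] [IsMonHom l'] (h : l = l') (x : pt k ⟶ X) (m : ℤ) :
    HMNum.IsMu B l x m ↔ HMNum.IsMu B l' x m := by
  subst h
  exact Iff.rfl

section

variable {G X : Over (Sp k)} [GrpObj G] {a : AlgGrp.Action G X} {B : GLinSh.LinBun G a}
  {M : Type} [AddCommGroup M] {j : AMonS (Sp k) M ⟶ G} [IsMonHom j]

/-- The linear form of an eigensection. -/
def ell (σ : Sec B j) (l : Red.Gm (Sp k) ⟶ AMonS (Sp k) M) : ℚ := -(pair l σ.m : ℚ) / (σ.n : ℚ)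

theorem ell_eq_iff (σ : Sec B j) (l : Red.Gm (Sp k) ⟶ AMonS (Sp k) M) (m : ℤ) :
    (m : ℚ) = ell σ l ↔ (σ.n : ℤ) * (-m) = pair l σ.m := by
  have hn : (σ.n : ℚ) ≠ 0 := by have := σ.pos; exact_mod_cast (by omega : σ.n ≠ 0)
  rw [ell, eq_div_iff hn]
  constructor
  · intro h
    exact_mod_cast (by linarith : (σ.n : ℚ) * (-(m : ℚ)) = (pair l σ.m : ℚ))
  · intro h
    have : (σ.n : ℚ) * (-(m : ℚ)) = (pair l σ.m : ℚ) := by exact_mod_cast h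
    linarith

theorem ell_le_iff (σ : Sec B j) (l : Red.Gm (Sp k) ⟶ AMonS (Sp k) M) (m : ℤ) :
    ell σ l ≤ (m : ℚ) ↔ (σ.n : ℤ) * (-m) ≤ pair l σ.m := by
  have hn : (0 : ℚ) < σ.n := by have := σ.pos; exact_mod_cast (by omega : 0 < σ.n)
  rw [ell, div_le_iff₀ hn]
  constructor
  · intro h
    exact_mod_cast (by linarith : (σ.n : ℚ) * (-(m : ℚ)) ≤ (pair l σ.m : ℚ))
  · intro h
    have : (σ.n : ℚ) * (-(m : ℚ)) ≤ (pair l σ.m : ℚ) := by exact_mod_cast h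
    linarith

theorem ell_mul (σ : Sec B j) (l l' : Red.Gm (Sp k) ⟶ AMonS (Sp k) M) [IsMonHom l] [IsMonHom l'] :
    ell σ (l * l') = ell σ l + ell σ l' := by
  rw [ell, ell, ell, pair_mul l l' σ.m]
  push_cast
  ring

variable [IsProper X.hom]

/-- The numerical function along the torus is the maximum of the linear forms of the sections not vanishing at the point. -/
theorem mu_formula (F : Finset (Sec B j)) (hF : ∀ x : pt k ⟶ X, ∃ σ ∈ F, Nz σ.f x) (x : pt k ⟶ X)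
    (l : Red.Gm (Sp k) ⟶ AMonS (Sp k) M) [IsMonHom l] (m : ℤ) :
    HMNum.IsMu B (l ≫ j) x m ↔
      ∃ σ ∈ F, Nz σ.f x ∧ (m : ℚ) = ell σ l ∧ ∀ σ' ∈ F, Nz σ'.f x → ell σ' l ≤ ell σ l := by
  have fwd : ∀ m : ℤ, HMNum.IsMu B (l ≫ j) x m →
      ∃ σ ∈ F, Nz σ.f x ∧ (m : ℚ) = ell σ l ∧ ∀ σ' ∈ F, Nz σ'.f x → ell σ' l ≤ ell σ l := by
    rintro m ⟨y, hy, hw⟩
    obtain ⟨σ₀, h₀F, h₀⟩ := hF y
    obtain ⟨σ₁, h₁F, h₁⟩ := hF x
    have hw0 := fibreWt_eq hw σ₀ h₀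
    have hm := (ell_eq_iff σ₀ l m).2 hw0
    refine ⟨σ₀, h₀F, (orbit_bound hy σ₀ h₀ _ hw0 σ₁ h₁).2, hm, fun σ' hF' hσ' => ?_⟩
    rw [← hm, ell_le_iff]
    exact (orbit_bound hy σ₀ h₀ _ hw0 σ' hσ').1
  refine ⟨fwd m, ?_⟩
  rintro ⟨σ, hσF, hσx, hm, hmax⟩
  obtain ⟨y, hy⟩ := exists_isLimitPt a (l ≫ j) x
  obtain ⟨σ₀, h₀F, h₀⟩ := hF y
  obtain ⟨w, -, hw⟩ := exists_fibreWt (HMTransLib.isFixedBy_of_isLimitPt hy) σ₀ h₀
  have hmu : HMNum.IsMu B (l ≫ j) x (-w) := ⟨y, hy, by rwa [neg_neg]⟩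
  obtain ⟨τ, hτF, hτx, hτ, hτmax⟩ := fwd (-w) hmu
  have : (m : ℚ) = ((-w : ℤ) : ℚ) := le_antisymm (by rw [hm, hτ]; exact hτmax σ hσF hσx)
    (by rw [hm, hτ]; exact hmax τ hτF hτx)
  rwa [show m = -w from by exact_mod_cast this]

theorem exists_forms (hB : HMNum.AmpleCover B) : ∃ F : Finset (Sec B j), ∀ x : pt k ⟶ X, ∃ σ ∈ F, Nz σ.f x := by
  haveI := hB.1
  haveI := B.atlas.affine
  haveI : CompactSpace B.V.left := QuasiCompact.compactSpace_of_compactSpace B.π.left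
  haveI : B.V.left.IsSeparated := by
    rw [Scheme.isSeparated_iff,
      show terminal.from B.V.left = (B.π.left ≫ X.hom) ≫ terminal.from (Sp k) from terminal.hom_ext _ _]
    infer_instance
  exact exists_finite_secs j hB

/-- Subadditivity. -/
theorem mu_subadditive (hB : HMNum.AmpleCover B) (x : pt k ⟶ X) (l₁ l₂ : Red.Gm (Sp k) ⟶ AMonS (Sp k) M)
    [IsMonHom l₁] [IsMonHom l₂] [IsMonHom (l₁ * l₂)] (m₁ m₂ m : ℤ) (h₁ : HMNum.IsMu B (l₁ ≫ j) x m₁)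
    (h₂ : HMNum.IsMu B (l₂ ≫ j) x m₂) (h : HMNum.IsMu B ((l₁ * l₂) ≫ j) x m) : m ≤ m₁ + m₂ := by
  obtain ⟨F, hF⟩ := exists_forms (j := j) hB
  obtain ⟨σ, hσF, hσ, e, -⟩ := (mu_formula F hF x _ m).1 h
  obtain ⟨σ₁, -, -, e₁, hmax₁⟩ := (mu_formula F hF x _ m₁).1 h₁
  obtain ⟨σ₂, -, -, e₂, hmax₂⟩ := (mu_formula F hF x _ m₂).1 h₂
  have a₁ := hmax₁ σ hσF hσ
  have a₂ := hmax₂ σ hσF hσ
  rw [ell_mul] at e
  exact_mod_cast (by linarith : (m : ℚ) ≤ (m₁ : ℚ) + (m₂ : ℚ))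

end

/-- A torus over an algebraically closed field, in coordinates. -/
theorem exists_coords [IsAlgClosed k] {G T : Over (Sp k)} [GrpObj G] [GrpObj T] (i : T ⟶ G) [IsMonHom i]
    (hT : Red.IsTorus T) :
    ∃ (r : ℕ) (e : T ⟶ AMonS (Sp k) (Fin r → ℤ)) (j : AMonS (Sp k) (Fin r → ℤ) ⟶ G),
      IsMonHom e ∧ IsMonHom j ∧ (Mono i → Mono j) ∧ e ≫ j = i := by
  obtain ⟨r, ⟨e⟩⟩ := Deform.exists_split T hT
  have h1 : e.hom.hom.hom ≫ e.inv.hom.hom = 𝟙 T := congrArg (fun m => m.hom.hom) e.hom_inv_id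
  have h2 := Deform.grp_inv_hom e
  haveI : IsIso e.inv.hom.hom := ⟨e.hom.hom.hom, h2, h1⟩
  haveI : IsMonHom e.inv.hom.hom := e.inv.hom.isMonHom_hom
  refine ⟨r, e.hom.hom.hom, e.inv.hom.hom ≫ i, e.hom.hom.isMonHom_hom, inferInstance, fun hi => ?_, ?_⟩
  · exact mono_comp _ _
  · rw [← Category.assoc, h1, Category.id_comp]

end Groth.Agent.TorusMu
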