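import Groth.Agent.TorusMu.Main
import Groth.Agent.Deform.Borel.Tori
import Groth.Agent.Deform.TorusIsogeny
import Groth.Agent.Deform.SplitQuot
import Groth.Agent.FBaseLib.Basic
import Groth.Agent.GrpSchLib.Cartier
import Groth.Agent.GrpSchLib.ImageFactor
import Groth.Agent.HMTransLib.Translate
import Groth.Agent.S5352
import Groth.Agent.GrpSchLib.RankOneBase
import Mathlib.LinearAlgebra.Matrix.ToLin
import Mathlib.LinearAlgebra.FreeModule.PID

/-! One-parameter subgroups move into a maximal torus; the numerical function is bounded by any norm. -/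

universe u

open CategoryTheory CategoryTheory.Limits MonoidalCategory CartesianMonoidalCategory MonObj GrpObj
  AlgebraicGeometry Opposite Magnet TopologicalSpace

noncomputable section

namespace Groth.Agent.TorusMu

/-- An additive functional on a lattice is bounded by any positive definite rational form. -/
theorem exists_sq_le {A : Type*} [AddCommGroup A] {r : ℕ} (v : A →+ (Fin r → ℤ)) (hv : Function.Injective v)
    (b : A →+ A →+ ℚ) (hs : ∀ x y, b x y = b y x) (hp : ∀ x, x ≠ 0 → 0 < b x x) (c : A →+ ℚ) :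
    ∃ C : ℚ, 0 ≤ C ∧ ∀ x, c x ^ 2 ≤ C * b x x := by
  classical
  haveI : Module.Finite ℤ A := Module.Finite.of_injective v.toIntLinearMap hv
  haveI : IsAddTorsionFree A := hv.isAddTorsionFree v
  haveI : Module.Free ℤ A := inferInstance
  let w := Module.finBasis ℤ A
  let n := Module.finrank ℤ A
  let Q : Matrix (Fin n) (Fin n) ℚ := fun i j => b (w i) (w j)
  have hb : ∀ x y, b x y = ∑ i, ∑ j, (w.repr x i : ℚ) * (w.repr y j : ℚ) * Q i j := by
    intro x y
    conv_lhs => rw [← w.sum_repr x, ← w.sum_repr y]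
    simp only [map_sum, AddMonoidHom.finsetSum_apply, map_zsmul, AddMonoidHom.zsmul_apply, Finset.smul_sum,
      smul_smul, zsmul_eq_mul, Int.cast_mul, Q]
    rw [Finset.sum_comm]
    refine Finset.sum_congr rfl fun i _ => Finset.sum_congr rfl fun j _ => ?_
    ring
  have hc : ∀ x, c x = ∑ i, (w.repr x i : ℚ) * c (w i) := by
    intro x
    conv_lhs => rw [← w.sum_repr x]
    simp only [map_sum, map_zsmul, zsmul_eq_mul]
  let B : (Fin n → ℚ) →ₗ[ℚ] (Fin n → ℚ) →ₗ[ℚ] ℚ := Matrix.toLinearMap₂' ℚ Q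
  have hB : ∀ y z : Fin n → ℚ, B y z = ∑ i, ∑ j, y i * z j * Q i j := fun y z => by
    simp only [B, Matrix.toLinearMap₂'_apply, smul_eq_mul]
    refine Finset.sum_congr rfl fun i _ => Finset.sum_congr rfl fun j _ => ?_
    ring
  have hsym : ∀ y z, B y z = B z y := fun y z => by
    rw [hB, hB, Finset.sum_comm]
    refine Finset.sum_congr rfl fun i _ => Finset.sum_congr rfl fun j _ => ?_
    simp only [Q, hs (w i) (w j)]
    ring
  have hpos : ∀ y : Fin n → ℚ, y ≠ 0 → 0 < B y y := fun y hy => by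
    let d : ℕ := ∏ i, (y i).den
    have hd0 : (0 : ℚ) < d := by exact_mod_cast Finset.prod_pos fun i _ => (y i).pos
    let z : Fin n → ℤ := fun i => (y i).num * ∏ j ∈ Finset.univ.erase i, ((y j).den : ℤ)
    have hz : ∀ i, (z i : ℚ) = (d : ℚ) * y i := fun i => by
      show (((y i).num * ∏ j ∈ Finset.univ.erase i, ((y j).den : ℤ) : ℤ) : ℚ) =
        ((∏ i, (y i).den : ℕ) : ℚ) * y i
      rw [← Finset.mul_prod_erase _ _ (Finset.mem_univ i)]
      push_cast
      rw [← Rat.mul_den_eq_num (y i)]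
      ring
    let x : A := ∑ i, z i • w i
    have hx : ∀ i, (w.repr x i : ℚ) = (d : ℚ) * y i := fun i => by
      rw [show w.repr x i = z i from congrFun (w.repr_sum_self z) i, hz]
    have hxne : x ≠ 0 := fun h => hy (funext fun i => by
      have h1 := hx i
      rw [h, map_zero, Finsupp.zero_apply, Int.cast_zero] at h1
      exact (mul_eq_zero.1 h1.symm).resolve_left hd0.ne')
    have h2 : b x x = (d : ℚ) ^ 2 * B y y := by
      rw [hb, hB, Finset.mul_sum]
      refine Finset.sum_congr rfl fun i _ => ?_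
      rw [Finset.mul_sum]
      refine Finset.sum_congr rfl fun j _ => ?_
      rw [hx, hx]
      ring
    have h3 := hp x hxne
    rw [h2] at h3
    exact (mul_pos_iff_of_pos_left (pow_pos hd0 2)).1 h3
  have hinj : Function.Injective B := (injective_iff_map_eq_zero B).2 fun y hy => by
    by_contra hne
    exact (hpos y hne).ne' (by rw [hy]; rfl)
  obtain ⟨u, hu⟩ := (LinearMap.injective_iff_surjective_of_finrank_eq_finrank
    Subspace.dual_finrank_eq.symm).1 hinj (Fintype.linearCombination ℚ (fun i => c (w i)))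
  refine ⟨B u u, ?_, fun x => ?_⟩
  · by_cases h : u = 0
    · simp [h]
    · exact (hpos u h).le
  let y : Fin n → ℚ := fun i => (w.repr x i : ℚ)
  have hcy : c x = B u y := by
    rw [hu, hc, Fintype.linearCombination_apply]
    rfl
  have hby : b x x = B y y := by rw [hb, hB]
  rw [hcy, hby]
  by_cases h : u = 0
  · simp [h]
  have h0 : 0 ≤ B (B u u • y - B u y • u) (B u u • y - B u y • u) := by
    by_cases hq : B u u • y - B u y • u = 0
    · simp [hq]
    · exact (hpos _ hq).le
  simp only [map_sub, map_smul, LinearMap.sub_apply, LinearMap.smul_apply, smul_eq_mul, hsym y u] at h0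
  nlinarith [hpos u h]

variable {k : Type u} [Field k]

theorem pair_mul_char {M : Type} [AddCommGroup M] (l : Red.Gm (Sp k) ⟶ AMonS (Sp k) M) [IsMonHom l]
    (m m' : Multiplicative M) : pair l (m * m') = pair l m + pair l m' := by
  refine exp_unique (k := k) ?_
  rw [zpow_add, Units.val_mul, ← chi_pair l m, ← chi_pair l m', ← chi_pair l (m * m'), map_mul]

/-- A cocharacter of a torus is determined by its pairings. -/
theorem pair_injective {M : Type} [AddCommGroup M] {l l' : Red.Gm (Sp k) ⟶ AMonS (Sp k) M} [IsMonHom l] [IsMonHom l']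
    (h : ∀ m, pair l m = pair l' m) : l = l' := by
  refine H23.CharPts.chi_injective (MonoidHom.ext fun m => ?_)
  have h1 := chi_pair l m (𝟙 (Red.Gm (Sp k)))
  have h2 := chi_pair l' m (𝟙 (Red.Gm (Sp k)))
  rw [Category.id_comp] at h1 h2
  rw [h1, h2, h]

open Deform.Borel in
/-- Every one-parameter subgroup is conjugate to one of a given maximal torus. -/
theorem exists_conj_into [IsAlgClosed k] {G T : Over (Sp k)} [GrpObj G] [GrpObj T] (hG : Red.IsReductive G)
    (i : T ⟶ G) [IsMonHom i] (hi : Red.IsMaximalTorus i) (l : Red.Gm (Sp k) ⟶ G) [IsMonHom l] :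
    ∃ (g : pt k ⟶ G) (l₀ : Red.Gm (Sp k) ⟶ T), IsMonHom l₀ ∧
      l = (toUnit _ ≫ g) * (l₀ ≫ i) * (toUnit _ ≫ g)⁻¹ := by
  haveI := hG.1
  haveI := hG.2.1
  haveI : IsAffine G.left := isAffine_of_isAffineHom G.hom
  haveI : ConnectedSpace G.left := by
    let s : ↥(Sp k) := IsLocalRing.closedPoint k
    haveI := isIso_geomPt s
    haveI : ConnectedSpace (Red.geomFibre s G).left := (hG.2.2 s).2.2.1
    haveI : ConnectedSpace ↥(pullback G.hom (Red.geomPt s)) := (hG.2.2 s).2.2.1
    haveI : Surjective (pullback.fst G.hom (Red.geomPt s)) := inferInstance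
    exact (pullback.fst G.hom (Red.geomPt s)).surjective.connectedSpace
      (pullback.fst G.hom (Red.geomPt s)).continuous
  haveI : CompactSpace G.left := inferInstance
  haveI : QuasiCompact G.hom := (quasiCompact_iff_compactSpace _).mpr inferInstance
  have hGm : Red.IsTorus (Red.Gm (Sp k)) := Deform.isTorus_of_split 1
    (Deform.SplitQuot.nonempty_DS_congr (LinearEquiv.funUnique (Fin 1) ℤ ℤ).toAddEquiv)
  obtain ⟨hGa, hGl, hGs, hGc⟩ := Deform.TorusBasic.props hGm
  haveI := hGa; haveI := hGl; haveI := hGs; haveI := hGc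
  obtain ⟨I, iI, p, c, hp, hc, hpc, hcc, hpf, hps, hIl, hIq⟩ := GrpSchLib.ImageFactor.exists_image l
  letI := iI
  haveI := hp; haveI := hc; haveI := hcc; haveI := hpf; haveI := hps; haveI := hIl; haveI := hIq
  haveI : Mono c := (Over.forget _).mono_of_mono_map (inferInstanceAs (Mono c.left))
  haveI : IsAffine I.left := isAffine_of_isAffineHom c.left
  haveI : IsAffineHom p.left := isAffineHom_of_isAffine p.left
  haveI : IsReduced (Red.Gm (Sp k)).left := GrpSchLib.isReduced_of_smooth_field (Red.Gm (Sp k)).hom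
  haveI : IsReduced I.left := FBaseLib.isReduced_of_flat_surjective p.left
  haveI : Smooth I.hom := GrpSchLib.smooth_of_isReduced_of_isAlgClosed I
  haveI : IsCommMonObj (Red.Gm (Sp k)) :=
    Deform.Extension.isCommMonObj_of fun X a b => GrpSchLib.RankOne.torus_mul_comm hGm X a b
  haveI : IsCommMonObj I := S5352.isCommMonObj_of_ff p
  have hI : Red.IsTorus I := Deform.TorusIsogeny.isTorus_of_surjective hGm p
  obtain ⟨T₀, iT₀, i₀, hu⟩ := exists_univTorus G
  letI := iT₀
  haveI := hu.1
  haveI : Mono i := hi.2.1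
  obtain ⟨g₁, φ, hφ, hφi⟩ := hu.conj_of_max i hi.2.2.1 (fun T' _ j _ _ f h1 h2 =>
    (isMaxTorus_of_isMaximalTorus hi).2.2.2 T' j f h1 h2)
  obtain ⟨g₂, f, hf, hfi⟩ := hu.2.2.2 I c hI
  haveI := hf; haveI := hφ
  refine ⟨g₂⁻¹ * g₁, p ≫ f ≫ φ.inv, inferInstance, ?_⟩
  have h1 : φ.inv ≫ AGF.conjBy g₁ i = i₀ := by rw [← hφi, Iso.inv_hom_id_assoc]
  have h2 : (p ≫ f ≫ φ.inv ≫ i) ≫ conj g₁ = l ≫ conj g₂ := by
    rw [Category.assoc, Category.assoc, Category.assoc, comp_conj i, h1, hfi, ← comp_conj c, ← Category.assoc, hpc]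
  rw [comp_conj, comp_conj] at h2
  simp only [AGF.conjBy] at h2
  simp only [Category.assoc, MonObj.comp_mul, GrpObj.comp_inv]
  rw [show ∀ x y z : Red.Gm (Sp k) ⟶ G, x⁻¹ * y * z * (x⁻¹ * y)⁻¹ = x⁻¹ * (y * z * y⁻¹) * x from
    fun x y z => by group, h2]
  group

end Groth.Agent.TorusMu
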