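import Groth.Agent.H28.MagnetTheta
import Groth.Prelude.Def_AlgGrp
import Groth.Agent.GrpSchLib.Action
import Groth.Agent.MagnetLib.LimitIso
import Mathlib.AlgebraicGeometry.Morphisms.Separated

/-! Functions on `A(M) × V` for quasi-compact separated `V`, and the decomposition of a function into eigenfunctions. -/

universe u

open CategoryTheory CategoryTheory.Limits MonoidalCategory CartesianMonoidalCategory MonObj AlgebraicGeometry
  Opposite Magnet TopologicalSpace

noncomputable section

namespace Groth.Agent.TorusMu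

open H23.CharPts H28.MagnetAff

variable {S : Scheme.{u}} {M : Type}

/-- An open subscheme over the base. -/
abbrev sub {V : Over S} (W : V.left.Opens) : Over S := Over.mk (W.ι ≫ V.hom)

/-- Its inclusion. -/
abbrev incl {V : Over S} (W : V.left.Opens) : sub W ⟶ V := Over.homMk W.ι rfl

set_option backward.isDefEq.respectTransparency false in
set_option backward.isDefEq.respectTransparency.types false in
theorem ι_appTop {X : Scheme.{u}} (W : X.Opens) (r : Γ(X, ⊤)) :
    W.ι.appTop r = W.topIso.inv (X.presheaf.map (homOfLE le_top).op r) := by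
  rw [Scheme.Opens.topIso_inv, Scheme.Opens.ι_appTop, ← CommRingCat.comp_apply, ← Functor.map_comp]
  rfl

theorem eq_of_ι_appTop {X : Scheme.{u}} (W : X.Opens) {r r' : Γ(X, ⊤)} (h : W.ι.appTop r = W.ι.appTop r') :
    X.presheaf.map (homOfLE (le_top : W ≤ ⊤)).op r = X.presheaf.map (homOfLE le_top).op r' := by
  rw [ι_appTop, ι_appTop] at h
  exact (ConcreteCategory.bijective_of_isIso W.topIso.inv).1 h

/-- A finite affine cover. -/
theorem exists_finite_affine_cover (X : Scheme.{u}) [CompactSpace X] :
    ∃ s : Finset X.affineOpens, ⨆ W : s, W.1.1 = (⊤ : X.Opens) := by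
  classical
  have h : (Set.univ : Set X) ⊆ ⋃ W : X.affineOpens, (W.1 : Set X) := fun x _ => by
    obtain ⟨W, hW, hxW, -⟩ := exists_isAffineOpen_mem_and_subset (show x ∈ (⊤ : X.Opens) from trivial)
    exact Set.mem_iUnion.2 ⟨⟨W, hW⟩, hxW⟩
  obtain ⟨s, hs⟩ := isCompact_univ.elim_finite_subcover _ (fun W : X.affineOpens => W.1.2) h
  refine ⟨s, eq_top_iff.2 fun x _ => ?_⟩
  obtain ⟨W, hW, hx⟩ := Set.mem_iUnion₂.1 (hs (Set.mem_univ x))
  exact Opens.mem_iSup.2 ⟨⟨W, hW⟩, hx⟩

theorem coeff_mapRingHom' {R R' : Type*} [CommRing R] [CommRing R'] {N : Type*} [CommMonoid N] (f : R →+* R')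
    (b : MonoidAlgebra R N) (n : N) : (MonoidAlgebra.mapRingHom N f b).coeff n = f (b.coeff n) := by
  simp

theorem theta_whisker_apply [AddCommMonoid M] {W W' : Over S} (v : W' ⟶ W)
    (b : MonoidAlgebra (RR W) (Multiplicative M)) :
    (AMonS S M ◁ v).left.appTop (theta M W b) =
      theta M W' (MonoidAlgebra.mapRingHom _ v.left.appTop.hom b) :=
  RingHom.congr_fun (theta_whisker W v) b

set_option backward.isDefEq.respectTransparency false in
set_option backward.isDefEq.respectTransparency.types false in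
theorem res_topIso {X : Scheme.{u}} {O W : X.Opens} {h : O ≤ W} (a : Γ(W.toScheme, ⊤)) :
    O.topIso.inv (X.presheaf.map (homOfLE h).op (W.topIso.hom a)) = (X.homOfLE h).appTop a := by
  simp only [Scheme.Opens.topIso_inv, Scheme.Opens.topIso_hom, Scheme.homOfLE_appTop, ← CommRingCat.comp_apply,
    ← Functor.map_comp, Category.assoc]
  rfl

variable [AddCommMonoid M]

theorem chi_one' {T : Over S} (m : Multiplicative M) : chi (1 : T ⟶ AMonS S M) m = 1 :=
  MagnetLib.LimitIso.chi_one m

theorem theta_injective (V : Over S) : Function.Injective (theta M V) := by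
  refine (injective_iff_map_eq_zero _).2 fun b hb => MonoidAlgebra.ext (Finsupp.ext fun m => ?_)
  refine TopCat.Sheaf.eq_of_locally_eq' V.left.sheaf (fun W : V.left.affineOpens => W.1) ⊤
    (fun W => homOfLE le_top) (fun x _ => ?_) _ _ fun W => ?_
  · obtain ⟨W, hW, hxW, -⟩ := exists_isAffineOpen_mem_and_subset (show x ∈ (⊤ : V.left.Opens) from trivial)
    exact Opens.mem_iSup.2 ⟨⟨W, hW⟩, hxW⟩
  · haveI : IsAffine (sub W.1).left := W.2
    have h := congrArg (AMonS S M ◁ incl W.1).left.appTop hb
    rw [theta_whisker_apply, map_zero] at h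
    have h2 := congrArg (fun q => q.coeff m) (((injective_iff_map_eq_zero _).1 (theta_iso M (sub W.1)).2.1) _ h)
    simp only [coeff_mapRingHom'] at h2
    exact eq_of_ι_appTop W.1 (h2.trans (map_zero _).symm)

variable [hS : S.IsSeparated]

/-- For quasi-compact separated `V` the functions on `A(M) × V` form the monoid algebra. -/
theorem theta_surjective (V : Over S) [CompactSpace V.left] [V.left.IsSeparated] :
    Function.Surjective (theta M V) := by
  classical
  intro g
  obtain ⟨s, hs⟩ := exists_finite_affine_cover V.left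
  have hb : ∀ W : s, ∃ b, theta M (sub W.1.1) b = (AMonS S M ◁ incl W.1.1).left.appTop g := fun W => by
    haveI : IsAffine (sub W.1.1).left := W.1.2
    exact (theta_iso M (sub W.1.1)).2.2 _
  choose b hb using hb
  let cs : ∀ m : Multiplicative M, ∀ W : s, Γ(V.left, W.1.1) := fun m W => W.1.1.topIso.hom ((b W).coeff m)
  have hcomp : ∀ m, TopCat.Presheaf.IsCompatible V.left.sheaf.1 (fun W : s => W.1.1) (cs m) := fun m W W' => by
    let O : V.left.Opens := W.1.1 ⊓ W'.1.1
    have hO : IsAffineOpen O := W.1.2.inf W'.1.2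
    haveI : IsAffine (sub O).left := hO
    let p : sub O ⟶ sub W.1.1 := Over.homMk (V.left.homOfLE inf_le_left) (by simp)
    let q : sub O ⟶ sub W'.1.1 := Over.homMk (V.left.homOfLE inf_le_right) (by simp)
    have e : p ≫ incl W.1.1 = q ≫ incl W'.1.1 := Over.OverMorphism.ext (by simp [p, q])
    have h1 := congrArg (AMonS S M ◁ p).left.appTop (hb W)
    have h2 := congrArg (AMonS S M ◁ q).left.appTop (hb W')
    rw [theta_whisker_apply, ← CommRingCat.comp_apply, ← Scheme.Hom.comp_appTop, ← Over.comp_left,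
      ← whiskerLeft_comp] at h1 h2
    rw [← e] at h2
    have h3 := congrArg (fun z => z.coeff m) ((theta_iso M (sub O)).2.1 (h1.trans h2.symm))
    simp only [coeff_mapRingHom'] at h3
    apply (ConcreteCategory.bijective_of_isIso O.topIso.inv).1
    change O.topIso.inv (V.left.presheaf.map (homOfLE inf_le_left).op (W.1.1.topIso.hom ((b W).coeff m))) =
      O.topIso.inv (V.left.presheaf.map (homOfLE inf_le_right).op (W'.1.1.topIso.hom ((b W').coeff m)))
    rw [res_topIso (h := inf_le_left), res_topIso (h := inf_le_right)]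
    exact h3
  choose c hc hcu using fun m => TopCat.Sheaf.existsUnique_gluing' V.left.sheaf (fun W : s => W.1.1) ⊤
    (fun W => homOfLE le_top) hs.ge (cs m) (hcomp m)
  have hres : ∀ (m : Multiplicative M) (W : s), W.1.1.ι.appTop (c m) = (b W).coeff m := fun m W => by
    rw [ι_appTop]
    exact (congrArg W.1.1.topIso.inv (hc m W)).trans
      ((CommRingCat.comp_apply _ _ _).symm.trans (by rw [Iso.hom_inv_id]; rfl))
  let supp : Finset (Multiplicative M) := Finset.univ.biUnion fun W : s => (b W).coeff.support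
  refine ⟨∑ m ∈ supp, MonoidAlgebra.single m (c m), ?_⟩
  refine TopCat.Sheaf.eq_of_locally_eq' (AMonS S M ⊗ V).left.sheaf
    (fun W : s => (snd (AMonS S M) V).left ⁻¹ᵁ W.1.1) ⊤ (fun W => homOfLE le_top) (fun z _ => ?_) _ _ fun W => ?_
  · obtain ⟨W, hW⟩ := Opens.mem_iSup.1 (hs.ge (trivial : (snd (AMonS S M) V).left.base z ∈ (⊤ : V.left.Opens)))
    exact Opens.mem_iSup.2 ⟨W, hW⟩
  · let O := (snd (AMonS S M) V).left ⁻¹ᵁ W.1.1
    let w : sub O ⟶ sub W.1.1 := Over.homMk ((snd (AMonS S M) V).left ∣_ W.1.1) (by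
      show ((snd (AMonS S M) V).left ∣_ W.1.1) ≫ W.1.1.ι ≫ V.hom = O.ι ≫ (AMonS S M ⊗ V).hom
      rw [← Category.assoc, morphismRestrict_ι, Category.assoc, Over.w])
    let z : sub O ⟶ AMonS S M ⊗ sub W.1.1 := lift (incl O ≫ fst _ V) w
    have hz : z ≫ (AMonS S M ◁ incl W.1.1) = incl O := by
      apply CartesianMonoidalCategory.hom_ext
      · simp [z]
      · simp only [z, Category.assoc, whiskerLeft_snd, lift_snd_assoc]
        exact Over.OverMorphism.ext (morphismRestrict_ι _ _)
    refine eq_of_ι_appTop O ?_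
    change (incl O).left.appTop _ = (incl O).left.appTop g
    rw [← hz, Over.comp_left, Scheme.Hom.comp_appTop, CommRingCat.comp_apply, CommRingCat.comp_apply,
      theta_whisker_apply, ← hb W]
    congr 2
    refine MonoidAlgebra.ext (Finsupp.ext fun m => ?_)
    simp only [map_sum, MonoidAlgebra.mapRingHom_single, MonoidAlgebra.coeff_sum, MonoidAlgebra.coeff_single,
      Finsupp.finsetSum_apply]
    by_cases hm : m ∈ supp
    · rw [Finset.sum_eq_single m (fun i _ hi => Finsupp.single_eq_of_ne hi.symm) (fun h => absurd hm h),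
        Finsupp.single_eq_same]
      exact hres m W
    · rw [Finset.sum_eq_zero fun i hi => Finsupp.single_eq_of_ne (fun h : m = i => hm (h ▸ hi))]
      exact (Finsupp.notMem_support_iff.1 fun h => hm (Finset.mem_biUnion.2 ⟨W, Finset.mem_univ _, h⟩)).symm

section Eigen

variable {G V : Over S} [GrpObj G] (Φ : AlgGrp.Action G V) (j : AMonS S M ⟶ G) [IsMonHom j]

/-- A function is an eigenfunction with character `m`. -/
def IsEigen (f : Γ(V.left, ⊤)) (m : Multiplicative M) : Prop :=
  ∀ (T : Over S) (g : T ⟶ AMonS S M) (x : T ⟶ V),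
    (lift (g ≫ j) x ≫ Φ.act).left.appTop f = x.left.appTop f * chi g m

theorem lift_appTop_theta {T : Over S} (g : T ⟶ AMonS S M) (x : T ⟶ V)
    (b : MonoidAlgebra (RR V) (Multiplicative M)) :
    (lift g x).left.appTop (theta M V b) = ∑ m ∈ b.coeff.support, x.left.appTop (b.coeff m) * chi g m := by
  conv_lhs => rw [← MonoidAlgebra.sum_coeff_single b, Finsupp.sum]
  rw [map_sum, map_sum]
  refine Finset.sum_congr rfl fun m _ => ?_
  rw [theta_single, map_mul]
  congr 1
  · show (lift g x ≫ snd _ _).left.appTop _ = _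
    rw [lift_snd]
  · erw [← chi_comp (lift g x) (fst _ V)]
    rw [lift_fst]

/-- Every function is a sum of eigenfunctions. -/
theorem exists_eigen [CompactSpace V.left] [V.left.IsSeparated] (f : Γ(V.left, ⊤)) :
    ∃ b : MonoidAlgebra (RR V) (Multiplicative M),
      theta M V b = ((j ▷ V) ≫ Φ.act).left.appTop f ∧
      (∀ m, IsEigen Φ j (b.coeff m) m) ∧ f = ∑ m ∈ b.coeff.support, b.coeff m := by
  classical
  obtain ⟨b, hb⟩ := theta_surjective (M := M) V (((j ▷ V) ≫ Φ.act).left.appTop f)
  have hf : ∀ (T : Over S) (g : T ⟶ AMonS S M) (x : T ⟶ V),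
      (lift (g ≫ j) x ≫ Φ.act).left.appTop f = ∑ m ∈ b.coeff.support, x.left.appTop (b.coeff m) * chi g m := by
    intro T g x
    rw [← lift_appTop_theta, hb, ← CommRingCat.comp_apply, ← Scheme.Hom.comp_appTop, ← Over.comp_left,
      lift_whiskerRight_assoc]
  refine ⟨b, hb, fun m => ?_, ?_⟩
  · intro T g₀ x₀
    let A := AMonS S M
    let W : Over S := A ⊗ V
    let P : Over S := A ⊗ W
    let g : P ⟶ A := fst A W
    let h : P ⟶ A := snd A W ≫ fst A V
    let x : P ⟶ V := snd A W ≫ snd A V
    let hV : W ⟶ V := (j ▷ V) ≫ Φ.act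
    have hx : lift (h ≫ j) x ≫ Φ.act = snd A W ≫ hV := by
      simp only [hV, ← lift_whiskerRight_assoc]
      congr 1
      simp [h, x, A, W, ← comp_lift]
    have hgh : lift ((g * h) ≫ j) x ≫ Φ.act = lift (g ≫ j) (lift (h ≫ j) x ≫ Φ.act) ≫ Φ.act := by
      rw [MonObj.mul_comp, GrpSchLib.act_mul]
    have h1 := hf P (g * h) x
    rw [hgh, hf P g] at h1
    have h2 : theta M W (∑ i ∈ b.coeff.support, MonoidAlgebra.single i (hV.left.appTop (b.coeff i))) =
        theta M W (∑ i ∈ b.coeff.support, MonoidAlgebra.single i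
          ((snd A V).left.appTop (b.coeff i) * chi (fst A V) i)) := by
      rw [map_sum, map_sum]
      refine Eq.trans (Finset.sum_congr rfl fun i _ => ?_) (h1.trans (Finset.sum_congr rfl fun i _ => ?_))
      · rw [theta_single, hx]
        rfl
      · rw [theta_single, chi_mul, map_mul]
        erw [← chi_comp (snd A W) (fst A V)]
        simp only [g, h, x, A, W]
        rw [mul_comm (chi (fst _ _) i), ← _root_.mul_assoc]
        rfl
    have h3 := congrArg (fun q => q.coeff m) (theta_injective W h2)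
    simp only [MonoidAlgebra.coeff_sum, Finsupp.finsetSum_apply, MonoidAlgebra.coeff_single] at h3
    by_cases hm : m ∈ b.coeff.support
    · rw [Finset.sum_eq_single m (fun i _ hi => Finsupp.single_eq_of_ne hi.symm) (fun h => absurd hm h),
        Finset.sum_eq_single m (fun i _ hi => Finsupp.single_eq_of_ne hi.symm) (fun h => absurd hm h),
        Finsupp.single_eq_same, Finsupp.single_eq_same] at h3
      have h4 := congrArg (lift g₀ x₀).left.appTop h3
      rw [map_mul, ← CommRingCat.comp_apply, ← CommRingCat.comp_apply, ← Scheme.Hom.comp_appTop,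
        ← Scheme.Hom.comp_appTop, ← Over.comp_left, ← Over.comp_left, lift_snd, lift_whiskerRight_assoc] at h4
      refine h4.trans ?_
      erw [← chi_comp (lift g₀ x₀) (fst A V)]
      rw [lift_fst]
    · rw [Finsupp.notMem_support_iff.mp hm, map_zero, map_zero, zero_mul]
  · have h := hf V 1 (𝟙 V)
    rw [MonObj.one_comp, GrpSchLib.act_one] at h
    refine Eq.trans ?_ (h.trans (Finset.sum_congr rfl fun m _ => ?_))
    · rfl
    · rw [chi_one', _root_.mul_one]
      rfl

end Eigen

end Groth.Agent.TorusMu
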