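import Groth.Agent.TorusMu.Comp
import Groth.Prelude.Def_GmPts
import Mathlib.Algebra.MonoidAlgebra.NoZeroDivisors
import Mathlib.Algebra.Group.UniqueProds.Basic
import Mathlib.RingTheory.LaurentSeries

/-! Exponents of characters of the multiplicative group over a field, and the Laurent series point. -/

universe u

open CategoryTheory CategoryTheory.Limits MonoidalCategory CartesianMonoidalCategory MonObj AlgebraicGeometry
  Opposite Magnet TopologicalSpace

noncomputable section

namespace Groth.Agent.TorusMu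

open H23.CharPts H28.MagnetAff

/-- Units of the Laurent polynomials over a domain are monomials. -/
theorem isUnit_eq_single {A : Type u} [CommRing A] [IsDomain A] (f g : MonoidAlgebra A (Multiplicative ℤ))
    (h : f * g = 1) : ∃ (a : Multiplicative ℤ) (c : A), f = MonoidAlgebra.single a c := by
  classical
  have hf : f ≠ 0 := by rintro rfl; simp at h
  have hg : g ≠ 0 := by rintro rfl; simp at h
  have hfs : f.coeff.support.Nonempty :=
    Finsupp.support_nonempty_iff.2 fun h0 => hf (MonoidAlgebra.ext h0)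
  have hgs : g.coeff.support.Nonempty :=
    Finsupp.support_nonempty_iff.2 fun h0 => hg (MonoidAlgebra.ext h0)
  by_cases hcard : 1 < f.coeff.support.card * g.coeff.support.card
  · exfalso
    obtain ⟨p1, hp1, p2, hp2, hne, u1, u2⟩ := TwoUniqueProds.uniqueMul_of_one_lt_card hcard
    have key : ∀ p ∈ f.coeff.support ×ˢ g.coeff.support, UniqueMul f.coeff.support g.coeff.support p.1 p.2 →
        p.1 * p.2 = 1 := by
      intro p hp u
      by_contra hne0
      have h1 := MonoidAlgebra.coeff_mul_mul_of_uniqueMul (f := f) (g := g) u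
      rw [h, MonoidAlgebra.one_def, MonoidAlgebra.coeff_single, Finsupp.single_eq_of_ne hne0] at h1
      obtain ⟨hp₁, hp₂⟩ := Finset.mem_product.1 hp
      exact mul_ne_zero (Finsupp.mem_support_iff.1 hp₁) (Finsupp.mem_support_iff.1 hp₂) h1.symm
    obtain ⟨e1, e2⟩ := u1 (Finset.mem_product.1 hp2).1 (Finset.mem_product.1 hp2).2
      ((key p2 hp2 u2).trans (key p1 hp1 u1).symm)
    exact hne (Prod.ext e1 e2).symm
  · have : f.coeff.support.card = 1 := by
      have h1 := hfs.card_pos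
      have h2 := hgs.card_pos
      nlinarith
    obtain ⟨a, ha⟩ := Finsupp.card_support_eq_one'.1 this
    obtain ⟨c, -, hfc⟩ := ha
    exact ⟨a, c, MonoidAlgebra.ext (by rw [hfc, MonoidAlgebra.coeff_single])⟩

variable (k : Type u) [Field k]

/-- The base. -/
abbrev Sp : Scheme.{u} := Spec (CommRingCat.of k)

/-- The final object. -/
abbrev pt : Over (Sp k) := 𝟙_ (Over (Sp k))

theorem unit_gmFn {S : Scheme.{u}} {T : Over S} (g : T ⟶ Red.Gm S) :
    ((GmPts.unitOfPt g : (Γ(T.left, ⊤))ˣ) : Γ(T.left, ⊤)) = chi (M := ℤ) g (Multiplicative.ofAdd 1) := rfl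

theorem chi_eq_zpow {S : Scheme.{u}} {T : Over S} (g : T ⟶ Red.Gm S) (a : ℤ) :
    chi (M := ℤ) g (Multiplicative.ofAdd a) = ((GmPts.unitOfPt g ^ a : (Γ(T.left, ⊤))ˣ) : Γ(T.left, ⊤)) := by
  have h : Units.map (chi (M := ℤ) g) (toUnits (Multiplicative.ofAdd (1 : ℤ))) = GmPts.unitOfPt g :=
    Units.ext (unit_gmFn g).symm
  rw [← h, ← map_zpow, ← map_zpow, ← ofAdd_zsmul, zsmul_one]
  rfl

theorem isDomain_pt : IsDomain Γ((pt k).left, ⊤) :=
  (Scheme.ΓSpecIso (CommRingCat.of k)).commRingCatIsoToRingEquiv.injective.isDomain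
    (Scheme.ΓSpecIso (CommRingCat.of k)).commRingCatIsoToRingEquiv.toRingHom

variable {k}

/-- A unit on the multiplicative group equal to one at the identity is a power of the coordinate. -/
theorem exists_exp (r : Γ((Red.Gm (Sp k)).left, ⊤)) (hr : IsUnit r)
    (h1 : (1 : pt k ⟶ Red.Gm (Sp k)).left.appTop r = 1) :
    ∃ a : ℤ, ∀ (T : Over (Sp k)) (g : T ⟶ Red.Gm (Sp k)),
      g.left.appTop r = ((GmPts.unitOfPt g ^ a : (Γ(T.left, ⊤))ˣ) : Γ(T.left, ⊤)) := by
  haveI : IsAffine (pt k).left := inferInstanceAs (IsAffine (Spec (CommRingCat.of k)))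
  haveI := isDomain_pt k
  let A := AMonS (Sp k) ℤ
  let e := thetaEquiv (pt k) ℤ
  let ρ := e.symm ((fst A (pt k)).left.appTop r)
  obtain ⟨u, hu⟩ := (hr.map (fst A (pt k)).left.appTop.hom).map e.symm
  obtain ⟨a, c, hac⟩ := isUnit_eq_single ρ (↑u⁻¹ : MonoidAlgebra _ _) (by
    change ρ * _ = 1
    rw [show ρ = (u : MonoidAlgebra _ _) from hu.symm]
    exact u.mul_inv)
  have hg : ∀ (T : Over (Sp k)) (g : T ⟶ Red.Gm (Sp k)),
      g.left.appTop r = (toUnit T).left.appTop c * chi (M := ℤ) g a := by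
    intro T g
    have h2 : (lift g (toUnit T)).left.appTop (theta ℤ (pt k) ρ) = g.left.appTop r := by
      rw [show theta ℤ (pt k) ρ = (fst A (pt k)).left.appTop r from e.apply_symm_apply _,
        ← CommRingCat.comp_apply, ← Scheme.Hom.comp_appTop, ← Over.comp_left, lift_fst]
    rw [← h2, hac, theta_single, map_mul]
    congr 1
    · show (lift g (toUnit T) ≫ snd _ _).left.appTop _ = _
      rw [lift_snd]
    · erw [← chi_comp (lift g (toUnit T)) (fst _ (pt k))]
      rw [lift_fst]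
  have hc : c = 1 := by
    have := (hg (pt k) 1).symm.trans h1
    rw [chi_one', _root_.mul_one, toUnit_unit] at this
    simpa using this
  refine ⟨a.toAdd, fun T g => ?_⟩
  rw [hg, hc, map_one, _root_.one_mul, ← chi_eq_zpow, ofAdd_toAdd]

variable (k)

/-- The Laurent series point. -/
abbrev TK : Over (Sp k) :=
  Over.mk (Spec.map (CommRingCat.ofHom (algebraMap k (LaurentSeries k))))

/-- The power series point. -/
abbrev TO : Over (Sp k) :=
  Over.mk (Spec.map (CommRingCat.ofHom (algebraMap k (PowerSeries k))))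

/-- Values at the Laurent series point. -/
abbrev ev (r : Γ((TK k).left, ⊤)) : LaurentSeries k := (Scheme.ΓSpecIso (CommRingCat.of (LaurentSeries k))).hom r

/-- Values at the power series point. -/
abbrev evO (r : Γ((TO k).left, ⊤)) : PowerSeries k := (Scheme.ΓSpecIso (CommRingCat.of (PowerSeries k))).hom r

theorem ev_injective : Function.Injective (ev k) :=
  (ConcreteCategory.bijective_of_isIso (Scheme.ΓSpecIso (CommRingCat.of (LaurentSeries k))).hom).1

/-- The point `u` of the multiplicative group. -/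
def gu : TK k ⟶ Red.Gm (Sp k) :=
  GmPts.ptOfUnit (Units.map ((Scheme.ΓSpecIso (CommRingCat.of (LaurentSeries k))).inv.hom.toMonoidHom :
      LaurentSeries k →* Γ((TK k).left, ⊤))
    (Units.mk0 (HahnSeries.single (1 : ℤ) (1 : k)) (by simp)))

theorem single_zpow (a : ℤ) :
    (HahnSeries.single (1 : ℤ) (1 : k) : LaurentSeries k) ^ a = HahnSeries.single a (1 : k) := by
  induction a with
  | zero => rw [zpow_zero, HahnSeries.single_zero_one]
  | succ i hi => rw [zpow_add_one₀ (by simp), hi, HahnSeries.single_mul_single, _root_.one_mul]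
  | pred i hi =>
    rw [sub_eq_add_neg, zpow_add₀ (by simp), hi, zpow_neg_one, HahnSeries.inv_single, inv_one,
      HahnSeries.single_mul_single, _root_.one_mul]

theorem ev_unit_zpow (a : ℤ) :
    ev k ((GmPts.unitOfPt (gu k) ^ a : (Γ((TK k).left, ⊤))ˣ) : Γ((TK k).left, ⊤)) = HahnSeries.single a (1 : k) := by
  rw [gu, GmPts.unitOfPt_ptOfUnit, ← map_zpow, Units.coe_map]
  change (Scheme.ΓSpecIso _).hom ((Scheme.ΓSpecIso _).inv _) = _
  rw [← CommRingCat.comp_apply, Iso.inv_hom_id]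
  simp [single_zpow]

variable {k}

theorem exp_unique {a b : ℤ}
    (h : ((GmPts.unitOfPt (gu k) ^ a : (Γ((TK k).left, ⊤))ˣ) : Γ((TK k).left, ⊤)) =
      ((GmPts.unitOfPt (gu k) ^ b : (Γ((TK k).left, ⊤))ˣ) : Γ((TK k).left, ⊤))) : a = b := by
  have h2 := congrArg (ev k) h
  rw [ev_unit_zpow, ev_unit_zpow] at h2
  have := congrArg HahnSeries.order h2
  rwa [HahnSeries.order_single (one_ne_zero), HahnSeries.order_single (one_ne_zero)] at this

variable {M : Type} [AddCommGroup M]

theorem exists_pair (l : Red.Gm (Sp k) ⟶ AMonS (Sp k) M) [IsMonHom l] (m : Multiplicative M) :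
    ∃ a : ℤ, ∀ (T : Over (Sp k)) (g : T ⟶ Red.Gm (Sp k)),
      chi (g ≫ l) m = ((GmPts.unitOfPt g ^ a : (Γ(T.left, ⊤))ˣ) : Γ(T.left, ⊤)) := by
  obtain ⟨a, ha⟩ := exists_exp (chi l m) ((Group.isUnit m).map (chi l)) (by
    rw [← chi_comp, MonObj.one_comp, chi_one'])
  exact ⟨a, fun T g => (chi_comp g l m).trans (ha T g)⟩

open Classical in
/-- The pairing of a cocharacter and a character. -/
def pair (l : Red.Gm (Sp k) ⟶ AMonS (Sp k) M) (m : Multiplicative M) : ℤ :=
  if h : ∃ a : ℤ, ∀ (T : Over (Sp k)) (g : T ⟶ Red.Gm (Sp k)),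
      chi (g ≫ l) m = ((GmPts.unitOfPt g ^ a : (Γ(T.left, ⊤))ˣ) : Γ(T.left, ⊤)) then h.choose else 0

theorem chi_pair (l : Red.Gm (Sp k) ⟶ AMonS (Sp k) M) [IsMonHom l] (m : Multiplicative M) {T : Over (Sp k)}
    (g : T ⟶ Red.Gm (Sp k)) :
    chi (g ≫ l) m = ((GmPts.unitOfPt g ^ pair l m : (Γ(T.left, ⊤))ˣ) : Γ(T.left, ⊤)) := by
  rw [pair, dif_pos (exists_pair l m)]
  exact (exists_pair l m).choose_spec T g

theorem pair_mul (l l' : Red.Gm (Sp k) ⟶ AMonS (Sp k) M) [IsMonHom l] [IsMonHom l'] (m : Multiplicative M) :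
    pair (l * l') m = pair l m + pair l' m := by
  have h : ∃ a : ℤ, ∀ (T : Over (Sp k)) (g : T ⟶ Red.Gm (Sp k)),
      chi (g ≫ (l * l')) m = ((GmPts.unitOfPt g ^ a : (Γ(T.left, ⊤))ˣ) : Γ(T.left, ⊤)) :=
    ⟨_, fun T g => by rw [MonObj.comp_mul, chi_mul, chi_pair, chi_pair, ← Units.val_mul, ← zpow_add]⟩
  refine exp_unique (k := k) ?_
  rw [zpow_add, Units.val_mul, ← chi_pair l m, ← chi_pair l' m, ← chi_mul, ← MonObj.comp_mul, pair, dif_pos h]
  exact (h.choose_spec (TK k) (gu k)).symm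

end Groth.Agent.TorusMu
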