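import Groth.Agent.TorusMu.Weight
import Groth.Agent.TorusMu.Exp
import Groth.Agent.HMTransLib.Limit

/-! The numerical function of a torus as a maximum over eigensections. -/

universe u

open CategoryTheory CategoryTheory.Limits MonoidalCategory CartesianMonoidalCategory MonObj AlgebraicGeometry
  Opposite Magnet TopologicalSpace

noncomputable section

namespace Groth.Agent.TorusMu

open H23.CharPts H28.MagnetAff

theorem chi_origin' {S : Scheme.{u}} (T : Over S) (n : Multiplicative HMNum.plus) (s : T ⟶ Red.Gm S) :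
    chi (s ≫ HMNum.incl S) n * chi (toUnit T ≫ HMNum.origin S) n = chi (toUnit T ≫ HMNum.origin S) n := by
  have h := HMTransLib.origin_mul s
  rw [Magnet.subAct, Magnet.MonAct.lift_restrict_act, Magnet.MonAct.lift_regular_act] at h
  conv_rhs => rw [← h, chi_mul]

variable {k : Type u} [Field k]

theorem appTop_toUnit_eq {T : Over (Sp k)} (r : Γ((pt k).left, ⊤)) :
    (toUnit T).left.appTop r = T.hom.appTop r := by
  have : (toUnit T).left = T.hom := (Category.comp_id _).symm.trans (Over.w (toUnit T))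
  rw [this]

/-- Constants at the Laurent series point. -/
theorem ev_const (r : Γ((pt k).left, ⊤)) :
    ev k ((toUnit (TK k)).left.appTop r) =
      HahnSeries.single (0 : ℤ) ((Scheme.ΓSpecIso (CommRingCat.of k)).hom r) := by
  rw [appTop_toUnit_eq]
  refine Eq.trans (congrArg (fun t => t r) (Scheme.ΓSpecIso_naturality (CommRingCat.ofHom (algebraMap k (LaurentSeries k))))) ?_
  show algebraMap k (LaurentSeries k) _ = _
  rw [HahnSeries.algebraMap_apply', PowerSeries.algebraMap_apply, HahnSeries.ofPowerSeries_C]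
  rfl

theorem ev_mul (r s : Γ((TK k).left, ⊤)) : ev k (r * s) = ev k r * ev k s :=
  map_mul (Scheme.ΓSpecIso (CommRingCat.of (LaurentSeries k))).hom.hom r s

theorem ev_pow (r : Γ((TK k).left, ⊤)) (n : ℕ) : ev k (r ^ n) = ev k r ^ n :=
  map_pow (Scheme.ΓSpecIso (CommRingCat.of (LaurentSeries k))).hom.hom r n

theorem appTop_comp {T T' V : Over (Sp k)} (p : T ⟶ T') (v : T' ⟶ V) (f : Γ(V.left, ⊤)) :
    (p ≫ v).left.appTop f = p.left.appTop (v.left.appTop f) := by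
  rw [Over.comp_left]
  rfl

theorem isUnit_pt {r : Γ((pt k).left, ⊤)} (h : r ≠ 0) : IsUnit r := by
  have h1 : (Scheme.ΓSpecIso (CommRingCat.of k)).hom r ≠ 0 := fun h0 =>
    h ((ConcreteCategory.bijective_of_isIso (Scheme.ΓSpecIso (CommRingCat.of k)).hom).1 (h0.trans (map_zero _).symm))
  have h2 := (isUnit_iff_ne_zero.2 h1).map (Scheme.ΓSpecIso (CommRingCat.of k)).inv.hom
  rwa [← CommRingCat.comp_apply, Iso.hom_inv_id] at h2

theorem eq_zero_of_basicOpen {r : Γ((pt k).left, ⊤)} (p : (pt k).left) : p ∈ (pt k).left.basicOpen r ↔ r ≠ 0 := by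
  refine ⟨?_, fun h => ?_⟩
  · rintro hp rfl
    simp at hp
  · rw [Scheme.basicOpen_of_isUnit _ (isUnit_pt h)]
    trivial

variable {G X : Over (Sp k)} [GrpObj G] {a : AlgGrp.Action G X} (B : GLinSh.LinBun G a)
  {M : Type} [AddCommGroup M] (j : AMonS (Sp k) M ⟶ G) [IsMonHom j]

/-- An eigensection: weight, character and the function. -/
structure Sec where
  /-- weight -/
  n : ℕ
  /-- character -/
  m : Multiplicative M
  /-- the function -/
  f : Γ(B.V.left, ⊤)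
  pos : 1 ≤ n
  eig : IsEigen B.lift j f m
  hom : IsHomog B n f

variable {B} in
/-- The function does not vanish on the fibre over the point. -/
def Nz (f : Γ(B.V.left, ⊤)) (x : pt k ⟶ X) : Prop := ∃ v : pt k ⟶ B.V, v ≫ B.π = x ∧ v.left.appTop f ≠ 0

variable {B}

theorem lands_pt (c : Chart B) {x : pt k ⟶ X} {p : (pt k).left} (h : x.left p ∈ c.W) : ⊤ ≤ x.left ⁻¹ᵁ c.W :=
  fun q _ => by
    haveI : Subsingleton (pt k).left := inferInstanceAs (Subsingleton (PrimeSpectrum k))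
    exact Subsingleton.elim p q ▸ h

theorem exists_chart_pt (x : pt k ⟶ X) : ∃ c : Chart B, ⊤ ≤ x.left ⁻¹ᵁ c.W := by
  obtain ⟨c, hc, -⟩ := exists_chart B (O := ⊤) (x := x.left (IsLocalRing.closedPoint k)) trivial
  exact ⟨c, lands_pt c hc⟩

theorem exists_lift_one (c : Chart B) {x : pt k ⟶ X} (hx : ⊤ ≤ x.left ⁻¹ᵁ c.W) :
    ∃ (v : pt k ⟶ B.V) (h : ⊤ ≤ v.left ⁻¹ᵁ (B.π.left ⁻¹ᵁ c.W)), v ≫ B.π = x ∧ val v.left _ h c.yW = 1 := by
  obtain ⟨s, hs, hsπ, hs1⟩ := c.exists_section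
  have hr : Set.range x.left ⊆ Set.range c.W.ι := by
    rintro _ ⟨t, rfl⟩
    rw [Scheme.Opens.range_ι]
    exact hx (show t ∈ (⊤ : (pt k).left.Opens) from trivial)
  let x' : pt k ⟶ sub c.W := Over.homMk (IsOpenImmersion.lift c.W.ι x.left hr) (by
    show _ ≫ c.W.ι ≫ X.hom = _
    rw [← Category.assoc, IsOpenImmersion.lift_fac]
    exact Over.w x)
  refine ⟨x' ≫ s, fun t _ => hs (show x'.left t ∈ (⊤ : (sub c.W).left.Opens) from trivial), ?_, ?_⟩
  · rw [Category.assoc, hsπ]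
    exact Over.OverMorphism.ext (IsOpenImmersion.lift_fac _ _ _)
  · exact (val_comp s.left hs x'.left _ _).trans (by rw [hs1, map_one])

theorem value_eq {T : Over (Sp k)} (c : Chart B) {n : ℕ} {f : Γ(B.V.left, ⊤)} {d : Γ(X.left, c.W)}
    (hd : GLinSh.resTop B.π c.W f = B.π.left.app c.W d * c.yW ^ n) (v : T ⟶ B.V)
    (hv : ⊤ ≤ v.left ⁻¹ᵁ (B.π.left ⁻¹ᵁ c.W)) {x : T ⟶ X} (e : v ≫ B.π = x) (hx : ⊤ ≤ x.left ⁻¹ᵁ c.W) :
    v.left.appTop f = val x.left c.W hx d * val v.left _ hv c.yW ^ n := by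
  subst e
  rw [← val_resTop v.left hv f]
  change val v.left _ hv (GLinSh.resTop B.π c.W f) = _
  rw [hd, val_mul, val_pow, val_app]
  rfl

theorem nz_iff (c : Chart B) {n : ℕ} {f : Γ(B.V.left, ⊤)} {d : Γ(X.left, c.W)}
    (hd : GLinSh.resTop B.π c.W f = B.π.left.app c.W d * c.yW ^ n) {x : pt k ⟶ X} (hx : ⊤ ≤ x.left ⁻¹ᵁ c.W) :
    Nz f x ↔ val x.left c.W hx d ≠ 0 := by
  constructor
  · rintro ⟨v, hv, hne⟩ h0
    exact hne (by rw [value_eq c hd v (fun t ht => by subst hv; exact hx ht) hv hx, h0, zero_mul])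
  · intro h
    obtain ⟨v, hv, hvx, h1⟩ := exists_lift_one c hx
    exact ⟨v, hvx, by rwa [value_eq c hd v hv hvx hx, h1, one_pow, _root_.mul_one]⟩

theorem exists_finite_secs [CompactSpace B.V.left] [B.V.left.IsSeparated] (hB : HMNum.AmpleCover B) :
    ∃ F : Finset (Sec B j), ∀ x : pt k ⟶ X, ∃ σ ∈ F, Nz σ.f x := by
  classical
  obtain ⟨hc, hx⟩ := hB
  choose n f hn hf hxf O hO hOaff using hx
  obtain ⟨s, hs⟩ := hc.1.elim_finite_subcover (fun z => (O z : Set X.left)) (fun z => (O z).2)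
    (fun z _ => Set.mem_iUnion.2 ⟨z, (hO z).symm ▸ hxf z⟩)
  choose b hb he hsum using fun z => exists_eigen B.lift j (f z)
  let σ : ∀ z : X.left, Multiplicative M → Sec B j := fun z m =>
    ⟨n z, m, (b z).coeff m, hn z, he z m, isHomog_component j (hf z) (b z) (hb z) m⟩
  refine ⟨s.biUnion fun z => (b z).coeff.support.image (σ z), fun x => ?_⟩
  let p : (pt k).left := IsLocalRing.closedPoint k
  obtain ⟨z, hz, hpz⟩ := Set.mem_iUnion₂.1 (hs (Set.mem_univ (x.left p)))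
  obtain ⟨c, hc'⟩ := exists_chart_pt (B := B) x
  obtain ⟨d, hd⟩ := isHomog_of_hasWeight (hf z) c
  have hne : val x.left c.W hc' d ≠ 0 := by
    rw [hO z] at hpz
    obtain ⟨v, hv, hvx⟩ := hpz
    have hvW : v ∈ B.π.left ⁻¹ᵁ c.W := by
      show B.π.left v ∈ c.W
      rw [hvx]
      exact hc' (show p ∈ (⊤ : (pt k).left.Opens) from trivial)
    have h1 : v ∈ B.V.left.basicOpen (GLinSh.resTop B.π c.W (f z)) := by
      rw [GLinSh.resTop, Scheme.basicOpen_res]
      exact ⟨hvW, hv⟩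
    rw [hd, Scheme.basicOpen_mul, ← Scheme.preimage_basicOpen] at h1
    rw [← eq_zero_of_basicOpen (k := k) p, basicOpen_val]
    show x.left p ∈ X.left.basicOpen d
    rw [← hvx]
    exact h1.1
  obtain ⟨v, hvx, hv⟩ := (nz_iff c hd hc').2 hne
  obtain ⟨m, hm, hmne⟩ : ∃ m ∈ (b z).coeff.support, v.left.appTop ((b z).coeff m) ≠ 0 := by
    by_contra hcon
    push Not at hcon
    rw [hsum z, map_sum, Finset.sum_eq_zero hcon] at hv
    exact hv rfl
  exact ⟨σ z m, Finset.mem_biUnion.2 ⟨z, hz, Finset.mem_image_of_mem _ hm⟩, v, hvx, hmne⟩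

variable {j} {l : Red.Gm (Sp k) ⟶ AMonS (Sp k) M} [IsMonHom l]

theorem eig_pair (σ : Sec B j) {T : Over (Sp k)} (g : T ⟶ Red.Gm (Sp k)) (v : T ⟶ B.V) :
    (lift (g ≫ l ≫ j) v ≫ B.lift.act).left.appTop σ.f =
      v.left.appTop σ.f * ((GmPts.unitOfPt g ^ pair l σ.m : (Γ(T.left, ⊤))ˣ) : Γ(T.left, ⊤)) := by
  rw [← Category.assoc, σ.eig, chi_pair]

theorem lift_act_π {T : Over (Sp k)} (g : T ⟶ G) (v : T ⟶ B.V) :
    (lift g v ≫ B.lift.act) ≫ B.π = lift g (v ≫ B.π) ≫ a.act := by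
  rw [Category.assoc, B.lift_π, lift_whiskerLeft_assoc]

/-- The weight on the fibre at a fixed point. -/
theorem exists_fibreWt {y : pt k ⟶ X} (hy : HMNum.IsFixedBy a (l ≫ j) y) (σ : Sec B j) (hσ : Nz σ.f y) :
    ∃ w : ℤ, (σ.n : ℤ) * w = pair l σ.m ∧ HMNum.HasFibreWeight B (l ≫ j) y w := by
  obtain ⟨c, hc⟩ := exists_chart_pt (B := B) y
  obtain ⟨d, hd⟩ := σ.hom c
  obtain ⟨v₀, hv₀, hv₀y, h1⟩ := exists_lift_one c hc
  have hD := (nz_iff c hd hc).1 hσ
  let T := Red.Gm (Sp k)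
  let gv : T ⟶ B.V := lift (𝟙 T ≫ l ≫ j) (toUnit T ≫ v₀) ≫ B.lift.act
  have hgv : gv ≫ B.π = toUnit T ≫ y := by rw [lift_act_π, Category.assoc, hv₀y, hy T (toUnit T) (𝟙 T)]
  have hgW : ⊤ ≤ gv.left ⁻¹ᵁ (B.π.left ⁻¹ᵁ c.W) := fun t _ => by
    show (gv ≫ B.π).left t ∈ c.W
    rw [hgv]
    exact hc (show (toUnit T).left t ∈ (⊤ : (pt k).left.Opens) from trivial)
  let r : Γ(T.left, ⊤) := val gv.left _ hgW c.yW
  have hyW : ⊤ ≤ (toUnit T ≫ y).left ⁻¹ᵁ c.W := fun t _ =>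
    hc (show (toUnit T).left t ∈ (⊤ : (pt k).left.Opens) from trivial)
  have hpow : r ^ σ.n = ((GmPts.unitOfPt (𝟙 T) ^ pair l σ.m : (Γ(T.left, ⊤))ˣ) : Γ(T.left, ⊤)) := by
    have h2 := eig_pair (l := l) σ (𝟙 T) (toUnit T ≫ v₀)
    rw [value_eq c hd gv hgW hgv hyW, appTop_comp, value_eq c hd v₀ hv₀ hv₀y hc, h1, one_pow, _root_.mul_one] at h2
    refine ((isUnit_pt hD).map (toUnit T).left.appTop.hom).mul_left_cancel (Eq.trans ?_ h2)
    congr 1
    exact (val_comp y.left hc (toUnit T).left _ _).symm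
  have hru : IsUnit r := (isUnit_pow_iff (by have := σ.pos; omega)).1 (hpow ▸ Units.isUnit _)
  have hone : (1 : pt k ⟶ T).left.appTop r = 1 := by
    have e : (1 : pt k ⟶ T) ≫ gv = v₀ := by
      simp only [gv, ← Category.assoc, comp_lift, Category.comp_id, comp_toUnit, toUnit_unit, Category.id_comp]
      rw [Category.assoc, MonObj.one_comp, GrpSchLib.act_one]
    refine (val_comp gv.left hgW (1 : pt k ⟶ T).left (fun t _ => hgW (show (1 : pt k ⟶ T).left t ∈ _ from trivial)) _).symm.trans ?_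
    exact (val_congr_over e _ hv₀ _).trans h1
  obtain ⟨w, hw⟩ := exists_exp r hru hone
  have hsig : (σ.n : ℤ) * w = pair l σ.m := by
    refine exp_unique (k := k) ?_
    have h3 := congrArg (gu k).left.appTop hpow
    rw [map_pow, hw (TK k) (gu k)] at h3
    rw [mul_comm, zpow_mul, zpow_natCast, Units.val_pow_eq_pow_val, h3, ← chi_pair, ← chi_pair, ← chi_comp (gu k) (𝟙 T ≫ l), Category.id_comp]
  refine ⟨w, hsig, hy, c.U, c.y, c.mem, top_le_iff.1 fun t ht => c.le (hc ht), fun T' t g v hv hgv' => ?_⟩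
  obtain rfl : t = toUnit T' := Subsingleton.elim _ _
  have hU : ⊤ ≤ (v ≫ B.π).left ⁻¹ᵁ c.U := fun q _ => by
    rw [hv]
    exact c.le (hc (show (toUnit T').left q ∈ (⊤ : (pt k).left.Opens) from trivial))
  have hU' : ⊤ ≤ ((lift (g ≫ l ≫ j) v ≫ B.lift.act) ≫ B.π).left ⁻¹ᵁ c.U := fun q _ => by
    rw [hgv']
    exact c.le (hc (show (toUnit T').left q ∈ (⊤ : (pt k).left.Opens) from trivial))
  obtain ⟨κ, h2, k1, k2⟩ := lift_linear c (g ≫ l ≫ j) v (toUnit T' ≫ v₀)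
    (by rw [hv, Category.assoc, hv₀y]) hU c.mem hU'
  have hone' : ∀ (T'' : Over (Sp k)) (h : ⊤ ≤ (toUnit T'' ≫ v₀).left ⁻¹ᵁ (B.π.left ⁻¹ᵁ c.U)),
      val (toUnit T'' ≫ v₀).left _ h c.y = 1 := fun T'' h => by
    have hv₀U : ⊤ ≤ v₀.left ⁻¹ᵁ (B.π.left ⁻¹ᵁ c.U) := fun q hq => c.le (hv₀ hq)
    rw [Chart.yW, GLinSh.res, val_res v₀.left hv₀U] at h1
    exact (val_comp v₀.left hv₀U (toUnit T'').left h _).trans (by rw [h1, map_one])
  rw [hone' T', _root_.mul_one] at k2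
  refine k1.trans ?_
  congr 1
  rw [← hw T' g, ← k2]
  have e : g ≫ gv = lift (g ≫ l ≫ j) (toUnit T' ≫ v₀) ≫ B.lift.act := by
    simp only [gv, comp_lift_assoc, Category.comp_id, Category.id_comp, Category.assoc]
    rw [← Category.assoc g (toUnit T) v₀, comp_toUnit]
  have hgU : ⊤ ≤ gv.left ⁻¹ᵁ (B.π.left ⁻¹ᵁ c.U) := fun q hq => c.le (hgW hq)
  simp only [r, Chart.yW, GLinSh.res]
  rw [val_res gv.left hgU, ← val_comp gv.left hgU g.left fun q _ => hgU (show g.left q ∈ _ from trivial)]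
  exact val_congr_over e.symm _ _ _

/-- Uniqueness of the weight on the fibre. -/
theorem fibreWt_eq {y : pt k ⟶ X} {w : ℤ} (hw : HMNum.HasFibreWeight B (l ≫ j) y w) (σ : Sec B j) (hσ : Nz σ.f y) :
    (σ.n : ℤ) * w = pair l σ.m := by
  obtain ⟨hy, U, y', hy', hU, hwt⟩ := hw
  obtain ⟨W, hW, hyW, hWU⟩ := exists_isAffineOpen_mem_and_subset
    (show y.left (IsLocalRing.closedPoint k) ∈ U from hU.ge (show IsLocalRing.closedPoint k ∈ (⊤ : (pt k).left.Opens) from trivial))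
  let c : Chart B := ⟨U, y', hy', W, hW, hWU⟩
  have hc := lands_pt c (p := IsLocalRing.closedPoint k) hyW
  obtain ⟨d, hd⟩ := σ.hom c
  obtain ⟨v₀, hv₀, hv₀y, h1⟩ := exists_lift_one c hc
  have hD := (nz_iff c hd hc).1 hσ
  let gv : TK k ⟶ B.V := lift (gu k ≫ l ≫ j) (toUnit (TK k) ≫ v₀) ≫ B.lift.act
  have hv : (toUnit (TK k) ≫ v₀) ≫ B.π = toUnit (TK k) ≫ y := by rw [Category.assoc, hv₀y]
  have hgv : gv ≫ B.π = toUnit (TK k) ≫ y := by rw [lift_act_π, hv, hy]
  have hyW' : ⊤ ≤ (toUnit (TK k) ≫ y).left ⁻¹ᵁ c.W := fun t _ =>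
    hc (show (toUnit (TK k)).left t ∈ (⊤ : (pt k).left.Opens) from trivial)
  have hgW : ⊤ ≤ gv.left ⁻¹ᵁ (B.π.left ⁻¹ᵁ c.W) := fun t ht => by
    show (gv ≫ B.π).left t ∈ c.W
    rw [hgv]
    exact hyW' ht
  have hvW : ⊤ ≤ (toUnit (TK k) ≫ v₀).left ⁻¹ᵁ (B.π.left ⁻¹ᵁ c.W) := fun t _ =>
    hv₀ (show (toUnit (TK k)).left t ∈ (⊤ : (pt k).left.Opens) from trivial)
  have h3 := hwt (TK k) (toUnit (TK k)) (gu k) (toUnit (TK k) ≫ v₀) hv hgv
  have hres : ∀ (v : TK k ⟶ B.V) (h : ⊤ ≤ v.left ⁻¹ᵁ (B.π.left ⁻¹ᵁ c.W)) (h' : ⊤ ≤ v.left ⁻¹ᵁ (B.π.left ⁻¹ᵁ U)),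
      HMNum.evalFn B.π y' v h' = val v.left _ h c.yW := fun v h h' => (val_res v.left h' _ h y').symm
  rw [hres _ hgW, hres _ hvW] at h3
  have h4 : val (toUnit (TK k) ≫ v₀).left _ hvW c.yW = 1 :=
    (val_comp v₀.left hv₀ (toUnit (TK k)).left _ _).trans (by rw [h1, map_one])
  rw [h4, _root_.mul_one] at h3
  have h5 := eig_pair (l := l) σ (gu k) (toUnit (TK k) ≫ v₀)
  rw [value_eq c hd gv hgW hgv hyW', value_eq c hd _ hvW hv hyW', h3, h4, one_pow, _root_.mul_one] at h5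
  refine exp_unique (k := k) ?_
  rw [mul_comm, zpow_mul, zpow_natCast, Units.val_pow_eq_pow_val]
  refine IsUnit.mul_left_cancel ?_ h5
  have := (val_comp y.left hc (toUnit (TK k)).left hyW' d)
  exact this ▸ (isUnit_pt hD).map (toUnit (TK k)).left.appTop.hom

theorem exists_power_point : ∃ b : TO k ⟶ HMNum.A1 (Sp k), ∀ n : Multiplicative HMNum.plus,
    evO k (chi b n) = PowerSeries.X ^ (n.toAdd : ℤ).toNat := by
  let f : Multiplicative HMNum.plus →* Γ((TO k).left, ⊤) :=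
    (Scheme.ΓSpecIso (CommRingCat.of (PowerSeries k))).inv.hom.toMonoidHom.comp
      { toFun := fun n => (PowerSeries.X : PowerSeries k) ^ (n.toAdd : ℤ).toNat
        map_one' := by simp
        map_mul' := fun p q => by
          rw [← pow_add, toAdd_mul, AddSubmonoid.coe_add,
            Int.toNat_add ((HMNum.mem_plus_iff _).1 p.toAdd.2) ((HMNum.mem_plus_iff _).1 q.toAdd.2)] }
  obtain ⟨b, hb⟩ := exists_chi_eq (S := Sp k) (T := TO k) (M := HMNum.plus) f
  refine ⟨b, fun n => ?_⟩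
  rw [hb]
  change (Scheme.ΓSpecIso _).hom ((Scheme.ΓSpecIso _).inv _) = _
  rw [← CommRingCat.comp_apply, Iso.inv_hom_id]
  rfl

/-- The inclusion of the Laurent point into the power series point. -/
def qKO : TK k ⟶ TO k :=
  Over.homMk (Spec.map (CommRingCat.ofHom (HahnSeries.ofPowerSeries ℤ k))) (by
    show Spec.map _ ≫ Spec.map _ = Spec.map _
    rw [← Spec.map_comp, ← CommRingCat.ofHom_comp])

/-- The closed point of the power series point. -/
def oO : pt k ⟶ TO k :=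
  Over.homMk (Spec.map (CommRingCat.ofHom PowerSeries.constantCoeff)) (by
    show Spec.map _ ≫ Spec.map _ = 𝟙 (Spec _)
    rw [← Spec.map_comp, ← CommRingCat.ofHom_comp,
      show (PowerSeries.constantCoeff (R := k)).comp (algebraMap k (PowerSeries k)) = RingHom.id k by ext; simp]
    exact Spec.map_id _)

theorem ev_qKO (r : Γ((TO k).left, ⊤)) :
    ev k ((qKO (k := k)).left.appTop r) = HahnSeries.ofPowerSeries ℤ k (evO k r) :=
  congrArg (fun t => t r) (Scheme.ΓSpecIso_naturality (CommRingCat.ofHom (HahnSeries.ofPowerSeries ℤ k)))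

theorem ev_oO (r : Γ((TO k).left, ⊤)) :
    (Scheme.ΓSpecIso (CommRingCat.of k)).hom ((oO (k := k)).left.appTop r) = PowerSeries.constantCoeff (evO k r) :=
  congrArg (fun t => t r) (Scheme.ΓSpecIso_naturality (CommRingCat.ofHom (PowerSeries.constantCoeff (R := k))))

theorem order_ofPowerSeries_nonneg (p : PowerSeries k) : 0 ≤ (HahnSeries.ofPowerSeries ℤ k p).order := by
  rcases eq_or_ne (HahnSeries.ofPowerSeries ℤ k p) 0 with h | h
  · rw [h, HahnSeries.order_zero]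
  · by_contra hlt
    push Not at hlt
    apply h
    have := fun e => h (HahnSeries.coeff_order_eq_zero.1 e)
    obtain ⟨o, ho⟩ : ∃ o, (HahnSeries.ofPowerSeries ℤ k p).order = o := ⟨_, rfl⟩
    rw [ho] at hlt this
    exact absurd (by
      rw [HahnSeries.ofPowerSeries_apply, HahnSeries.embDomain_notin_range]
      rintro ⟨n, hn⟩
      simp at hn
      omega) this

theorem order_ofPowerSeries_zero {p : PowerSeries k} (hp : PowerSeries.constantCoeff p ≠ 0) :
    (HahnSeries.ofPowerSeries ℤ k p).order = 0 := by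
  refine le_antisymm (HahnSeries.order_le_of_coeff_ne_zero ?_) (order_ofPowerSeries_nonneg p)
  rw [show (0 : ℤ) = ((0 : ℕ) : ℤ) from rfl, HahnSeries.ofPowerSeries_apply_coeff]
  rwa [PowerSeries.coeff_zero_eq_constantCoeff]

/-- Along the orbit: the weight at the limit bounds the exponents of sections non-zero at the point. -/
theorem orbit_bound {x y : pt k ⟶ X} (hxy : HMNum.IsLimitPt a (l ≫ j) x y) (σ₀ : Sec B j) (h₀ : Nz σ₀.f y)
    (w : ℤ) (hw : (σ₀.n : ℤ) * w = pair l σ₀.m) (σ : Sec B j) (hσ : Nz σ.f x) :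
    (σ.n : ℤ) * w ≤ pair l σ.m ∧ Nz σ₀.f x := by
  obtain ⟨φ, hφx, hφy⟩ := hxy
  obtain ⟨b, hb⟩ := exists_power_point (k := k)
  let ψ : TO k ⟶ X := lift b (toUnit _) ≫ φ.1
  have hqb : qKO ≫ b = gu k ≫ HMNum.incl (Sp k) := by
    refine chi_injective (MonoidHom.ext fun n => ev_injective k ?_)
    rw [chi_comp, ev_qKO, hb, chi_map, map_pow, HahnSeries.ofPowerSeries_X, HahnSeries.single_pow, one_pow, nsmul_one]
    change _ = ev k (chi (M := ℤ) (gu k) (Multiplicative.ofAdd (n.toAdd : ℤ)))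
    rw [chi_eq_zpow, ev_unit_zpow, Int.toNat_of_nonneg ((HMNum.mem_plus_iff _).1 n.toAdd.2)]
  have hqψ : qKO ≫ ψ = lift (gu k ≫ l ≫ j) (toUnit (TK k) ≫ x) ≫ a.act := by
    have h1 : lift (gu k) (toUnit (TK k) ≫ η[HMNum.A1 (Sp k)]) ≫ (Magnet.subAct (Sp k) ℤ HMNum.plus).act =
        gu k ≫ HMNum.incl (Sp k) := HMTransLib.one_mul_incl _
    have h2 := HMTransLib.eqv_apply φ (gu k) (toUnit (TK k) ≫ η[HMNum.A1 (Sp k)]) (toUnit (TK k))
    rw [h1, ← hqb] at h2
    simp only [ψ, ← Category.assoc, comp_lift, comp_toUnit]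
    refine (Eq.trans ?_ h2).trans ?_
    · rfl
    · congr 2
      rw [← hφx]
      simp only [Magnet.MonAct.eqvHom.evalAt_app]
      rw [comp_lift_assoc, Category.comp_id, ← Category.assoc, comp_toUnit]
  have hob : oO ≫ b = HMNum.origin (Sp k) := by
    refine chi_injective (MonoidHom.ext fun n => ?_)
    apply (ConcreteCategory.bijective_of_isIso (Scheme.ΓSpecIso (CommRingCat.of k)).hom).1
    rw [chi_comp, ev_oO, hb, map_pow, PowerSeries.constantCoeff_X]
    have ho := congrArg (ev k) (chi_origin' (TK k) n (gu k))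
    rw [ev_mul, chi_map, chi_comp (toUnit (TK k)), ev_const] at ho
    change ev k (chi (M := ℤ) (gu k) (Multiplicative.ofAdd (n.toAdd : ℤ))) * _ = _ at ho
    rw [chi_eq_zpow, ev_unit_zpow, HahnSeries.single_mul_single, _root_.one_mul, add_zero] at ho
    rcases eq_or_ne (n.toAdd : ℤ) 0 with h0 | h0
    · obtain rfl : n = 1 := Multiplicative.toAdd.injective (Subtype.ext h0)
      simp
    · rw [zero_pow (by have := (HMNum.mem_plus_iff _).1 n.toAdd.2; omega)]
      have h3 := congrArg (fun q : LaurentSeries k => q.coeff (n.toAdd : ℤ)) ho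
      simp only [HahnSeries.coeff_single_same, HahnSeries.coeff_single_of_ne h0] at h3
      exact h3.symm
  have hoψ : oO ≫ ψ = y := by
    rw [← hφy, HMNum.limitPt_eq]
    simp only [ψ, ← Category.assoc, comp_lift, comp_toUnit, hob, toUnit_unit, Category.id_comp]
  obtain ⟨c, hc⟩ := exists_chart_pt (B := B) y
  have hψW : ⊤ ≤ ψ.left ⁻¹ᵁ c.W := fun t _ => by
    let p : (pt k).left := IsLocalRing.closedPoint k
    have h1 : ψ.left ((oO (k := k)).left p) ∈ c.W := by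
      rw [← Scheme.Hom.comp_apply, ← Over.comp_left, hoψ]
      exact hc (show p ∈ (⊤ : (pt k).left.Opens) from trivial)
    have h2 : (oO (k := k)).left p = IsLocalRing.closedPoint (PowerSeries k) :=
      haveI : IsLocalHom (PowerSeries.constantCoeff (R := k)) := ⟨fun _ h => PowerSeries.isUnit_iff_constantCoeff.2 h⟩
      IsLocalRing.comap_closedPoint (PowerSeries.constantCoeff (R := k))
    rw [h2] at h1
    exact ((IsLocalRing.specializes_closedPoint t).map ψ.left.continuous).mem_open c.W.2 h1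
  obtain ⟨v, hvx, hv⟩ := hσ
  let gv : TK k ⟶ B.V := lift (gu k ≫ l ≫ j) (toUnit (TK k) ≫ v) ≫ B.lift.act
  have hgv : gv ≫ B.π = qKO ≫ ψ := by rw [hqψ, lift_act_π, Category.assoc, hvx]
  have hxW : ⊤ ≤ (qKO ≫ ψ).left ⁻¹ᵁ c.W := fun t _ => hψW (show (qKO (k := k)).left t ∈ _ from trivial)
  have hgW : ⊤ ≤ gv.left ⁻¹ᵁ (B.π.left ⁻¹ᵁ c.W) := fun t ht => by
    show (gv ≫ B.π).left t ∈ c.W
    rw [hgv]
    exact hxW ht
  let r : LaurentSeries k := ev k (val gv.left _ hgW c.yW)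
  let C : Sec B j → k := fun τ => (Scheme.ΓSpecIso (CommRingCat.of k)).hom (v.left.appTop τ.f)
  have key : ∀ (τ : Sec B j) (d : Γ(X.left, c.W)),
      GLinSh.resTop B.π c.W τ.f = B.π.left.app c.W d * c.yW ^ τ.n →
      HahnSeries.single (pair l τ.m) (C τ) =
        HahnSeries.ofPowerSeries ℤ k (evO k (val ψ.left c.W hψW d)) * r ^ τ.n := by
    intro τ d hd
    have h5 := congrArg (ev k) (eig_pair (l := l) τ (gu k) (toUnit (TK k) ≫ v))
    rw [value_eq c hd gv hgW hgv hxW, ev_mul, ev_pow, ev_mul, appTop_comp, ev_const, ev_unit_zpow,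
      HahnSeries.single_mul_single, zero_add, _root_.mul_one] at h5
    refine h5.symm.trans ?_
    congr 1
    exact (congrArg (ev k) (val_comp ψ.left hψW (qKO (k := k)).left _ _)).trans (ev_qKO _)
  have hC : C σ ≠ 0 := fun h => hv
    ((ConcreteCategory.bijective_of_isIso (Scheme.ΓSpecIso (CommRingCat.of k)).hom).1 (h.trans (map_zero _).symm))
  obtain ⟨d, hd⟩ := σ.hom c
  obtain ⟨d₀, hd₀⟩ := σ₀.hom c
  have hne : HahnSeries.ofPowerSeries ℤ k (evO k (val ψ.left c.W hψW d)) * r ^ σ.n ≠ 0 := by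
    rw [← key σ d hd]
    exact HahnSeries.single_ne_zero hC
  have hd0c : PowerSeries.constantCoeff (evO k (val ψ.left c.W hψW d₀)) ≠ 0 := by
    rw [← ev_oO]
    intro h
    refine (nz_iff c hd₀ hc).1 h₀ ?_
    apply (ConcreteCategory.bijective_of_isIso (Scheme.ΓSpecIso (CommRingCat.of k)).hom).1
    rw [map_zero, ← h, ← val_comp ψ.left hψW (oO (k := k)).left fun t _ => hψW (show (oO (k := k)).left t ∈ _ from trivial)]
    exact congrArg _ (val_congr_over hoψ.symm _ _ _)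
  have hr : r ≠ 0 := fun h => hne (by rw [h, zero_pow (by have := σ.pos; omega), mul_zero])
  have hd0ne : HahnSeries.ofPowerSeries ℤ k (evO k (val ψ.left c.W hψW d₀)) ≠ 0 := fun h => hd0c (by
    rw [(map_eq_zero_iff _ HahnSeries.ofPowerSeries_injective).1 h, map_zero])
  have h₀' := key σ₀ d₀ hd₀
  have hC0 : C σ₀ ≠ 0 := fun h => (mul_ne_zero hd0ne (pow_ne_zero σ₀.n hr)) (by rw [← h₀', h, map_zero])
  have o1 := congrArg HahnSeries.order (key σ d hd)
  rw [HahnSeries.order_single hC, HahnSeries.order_mul (left_ne_zero_of_mul hne) (pow_ne_zero _ hr),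
    HahnSeries.order_pow, nsmul_eq_mul] at o1
  have o2 := congrArg HahnSeries.order h₀'
  rw [HahnSeries.order_single hC0, HahnSeries.order_mul hd0ne (pow_ne_zero _ hr), HahnSeries.order_pow,
    nsmul_eq_mul, order_ofPowerSeries_zero hd0c, zero_add, ← hw] at o2
  have hwr : w = r.order := mul_left_cancel₀ (by have := σ₀.pos; exact_mod_cast (by omega : σ₀.n ≠ 0)) o2
  refine ⟨?_, v, hvx, fun h => hC0 (by simp only [C]; rw [h, map_zero])⟩
  rw [o1, hwr]
  exact le_add_of_nonneg_left (order_ofPowerSeries_nonneg _)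

end Groth.Agent.TorusMu
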