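import Mathlib.AlgebraicGeometry.AffineScheme

/-! Values of sections at scheme-valued points. -/

universe u

open CategoryTheory AlgebraicGeometry TopologicalSpace

set_option backward.isDefEq.respectTransparency false
set_option backward.isDefEq.respectTransparency.types false

noncomputable section

namespace Groth.Agent.TorusMu

variable {T T' X V : Scheme.{u}}

/-- The value at `z` of a section over an open through which `z` factors. -/
def val (z : T ⟶ V) (O : V.Opens) (h : ⊤ ≤ z ⁻¹ᵁ O) (r : Γ(V, O)) : Γ(T, ⊤) := z.appLE O ⊤ h r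

variable (z : T ⟶ V) {O O' : V.Opens} (h : ⊤ ≤ z ⁻¹ᵁ O)

theorem val_add (r r' : Γ(V, O)) : val z O h (r + r') = val z O h r + val z O h r' := map_add _ _ _

theorem val_mul (r r' : Γ(V, O)) : val z O h (r * r') = val z O h r * val z O h r' := map_mul _ _ _

theorem val_pow (r : Γ(V, O)) (n : ℕ) : val z O h (r ^ n) = val z O h r ^ n := map_pow _ _ _

theorem val_one : val z O h 1 = 1 := map_one _

theorem val_res (e : O' ≤ O) (h' : ⊤ ≤ z ⁻¹ᵁ O') (r : Γ(V, O)) :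
    val z O' h' (V.presheaf.map (homOfLE e).op r) = val z O h r := by
  rw [val, val, ← CommRingCat.comp_apply, Scheme.Hom.map_appLE]

theorem val_resTop (r : Γ(V, ⊤)) : val z O h (V.presheaf.map (homOfLE le_top).op r) = z.appTop r := by
  rw [val, ← CommRingCat.comp_apply, Scheme.Hom.map_appLE, Scheme.Hom.appTop, Scheme.Hom.app_eq_appLE]
  rfl

theorem val_congr {z' : T ⟶ V} (e : z = z') (h' : ⊤ ≤ z' ⁻¹ᵁ O) (r : Γ(V, O)) : val z O h r = val z' O h' r := by
  subst e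
  rfl

theorem val_app {π : V ⟶ X} {U : X.Opens} (h : ⊤ ≤ z ⁻¹ᵁ (π ⁻¹ᵁ U)) (r : Γ(X, U)) :
    val z (π ⁻¹ᵁ U) h (π.app U r) = val (z ≫ π) U h r := by
  rw [val, val, Scheme.Hom.app_eq_appLE, ← CommRingCat.comp_apply, Scheme.Hom.appLE_comp_appLE]

theorem val_comp (w : T' ⟶ T) (h' : ⊤ ≤ (w ≫ z) ⁻¹ᵁ O) (r : Γ(V, O)) :
    val (w ≫ z) O h' r = w.appTop (val z O h r) := by
  rw [val, val, Scheme.Hom.appTop, Scheme.Hom.app_eq_appLE, ← CommRingCat.comp_apply,
    Scheme.Hom.appLE_comp_appLE]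
  rfl

theorem basicOpen_val (r : Γ(V, O)) : T.basicOpen (val z O h r) = z ⁻¹ᵁ V.basicOpen r := by
  rw [val, Scheme.Hom.appLE, CommRingCat.comp_apply, Scheme.basicOpen_res, ← Scheme.preimage_basicOpen]
  exact inf_eq_right.2 fun _ _ => trivial

theorem exists_hom_val {O : V.Opens} (hO : IsAffineOpen O) (η : Γ(V, O) →+* Γ(T, ⊤)) :
    ∃ (z : T ⟶ V) (h : ⊤ ≤ z ⁻¹ᵁ O), ∀ r, val z O h r = η r := by
  let z : T ⟶ V := T.toSpecΓ ≫ Spec.map (CommRingCat.ofHom η) ≫ hO.fromSpec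
  have hle : ⊤ ≤ z ⁻¹ᵁ O := by
    intro t _
    have : z.base t ∈ Set.range hO.fromSpec.base :=
      ⟨(T.toSpecΓ ≫ Spec.map (CommRingCat.ofHom η)).base t, rfl⟩
    rwa [hO.range_fromSpec] at this
  refine ⟨z, hle, fun r => ?_⟩
  have h1 : hO.fromSpec.appLE O ⊤ (by rw [hO.fromSpec_preimage_self]) = (Scheme.ΓSpecIso Γ(V, O)).inv := by
    rw [Scheme.Hom.appLE, hO.fromSpec_app_self, Category.assoc, ← Functor.map_comp]
    exact (congrArg _ (congrArg _ (Subsingleton.elim _ (𝟙 _)))).trans (by simp)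
  have h2 : z.appLE O ⊤ hle = CommRingCat.ofHom η := by
    rw [← Scheme.Hom.appLE_comp_appLE T.toSpecΓ (Spec.map (CommRingCat.ofHom η) ≫ hO.fromSpec) O ⊤ ⊤
      (by rw [Scheme.Hom.comp_preimage, hO.fromSpec_preimage_self]; exact le_rfl) le_top,
      ← Scheme.Hom.appLE_comp_appLE (Spec.map (CommRingCat.ofHom η)) hO.fromSpec O ⊤ ⊤
        (by rw [hO.fromSpec_preimage_self]) le_top, h1]
    change ((Scheme.ΓSpecIso Γ(V, O)).inv ≫ _) ≫ _ = _
    rw [show (Spec.map (CommRingCat.ofHom η)).appLE ⊤ ⊤ le_top = (Spec.map (CommRingCat.ofHom η)).appTop from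
        (Scheme.Hom.app_eq_appLE _).symm, ← Scheme.ΓSpecIso_inv_naturality, Category.assoc,
      show T.toSpecΓ.appLE ⊤ ⊤ le_top = T.toSpecΓ.appTop from (Scheme.Hom.app_eq_appLE _).symm,
      Scheme.toSpecΓ_appTop]
    exact (congrArg _ (Scheme.ΓSpecIso _).inv_hom_id).trans (Category.comp_id _)
  exact congrArg (fun t => t r) h2

theorem hom_ext_val {z z' : T ⟶ V} {O : V.Opens} (hO : IsAffineOpen O) (h : ⊤ ≤ z ⁻¹ᵁ O) (h' : ⊤ ≤ z' ⁻¹ᵁ O)
    (e : ∀ r, val z O h r = val z' O h' r) : z = z' := by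
  haveI : IsAffine O.toScheme := hO
  have hr : ∀ (q : T ⟶ V), ⊤ ≤ q ⁻¹ᵁ O → Set.range q.base ⊆ Set.range O.ι.base := fun q hq => by
    rintro _ ⟨t, rfl⟩
    rw [Scheme.Opens.range_ι]
    exact hq (show t ∈ (⊤ : T.Opens) from trivial)
  rw [← IsOpenImmersion.lift_fac O.ι z (hr z h), ← IsOpenImmersion.lift_fac O.ι z' (hr z' h')]
  congr 1
  refine ext_of_isAffine (CommRingCat.hom_ext (RingHom.ext fun a => ?_))
  obtain ⟨r, rfl⟩ := (ConcreteCategory.bijective_of_isIso O.topIso.inv).2 a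
  have key : ∀ (q : T ⟶ V) (hq : ⊤ ≤ q ⁻¹ᵁ O),
      (IsOpenImmersion.lift O.ι q (hr q hq)).appTop (O.topIso.inv r) = val q O hq r := fun q hq => by
    have h1 : ⊤ ≤ O.ι ⁻¹ᵁ O := fun x _ => x.2
    refine Eq.trans ?_ (val_congr _ (fun t _ => hq (show t ∈ (⊤ : T.Opens) from trivial))
      (IsOpenImmersion.lift_fac O.ι q (hr q hq)).symm (fun t _ => (IsOpenImmersion.lift O.ι q (hr q hq) t).2) r).symm
    rw [val_comp O.ι h1]
    congr 1
    rw [val, Scheme.Opens.ι_appLE, Scheme.Opens.topIso_inv]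
    rfl
  exact (key z h).trans ((e r).trans (key z' h').symm)

end Groth.Agent.TorusMu
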