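import Groth.Agent.TorusMu.Val
import Groth.Agent.TorusMu.Comp
import Groth.Prelude.Def_GLinSh

/-! Homogeneous functions on a linearised line bundle and their eigencomponents. -/

universe u

open CategoryTheory CategoryTheory.Limits MonoidalCategory CartesianMonoidalCategory MonObj AlgebraicGeometry
  Opposite Magnet TopologicalSpace

noncomputable section

namespace Groth.Agent.TorusMu

open H23.CharPts H28.MagnetAff

variable {S : Scheme.{u}} {G X : Over S} [GrpObj G] {a : AlgGrp.Action G X} (B : GLinSh.LinBun G a)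

set_option backward.isDefEq.respectTransparency false in
set_option backward.isDefEq.respectTransparency.types false in
theorem ι_appLE_topIso {Y : Scheme.{u}} (W : Y.Opens) {h : ⊤ ≤ W.ι ⁻¹ᵁ W} : W.ι.appLE W ⊤ h = W.topIso.inv := by
  rw [Scheme.Opens.ι_appLE, Scheme.Opens.topIso_inv]
  rfl

/-- An affine chart: an affine open inside the domain of an admissible coordinate. -/
structure Chart where
  /-- the domain of the coordinate -/
  U : X.left.Opens
  /-- the coordinate -/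
  y : Γ(B.V.left, B.π.left ⁻¹ᵁ U)
  mem : y ∈ B.atlas.chart U
  /-- the affine open -/
  W : X.left.Opens
  affine : IsAffineOpen W
  le : W ≤ U

variable {B}

/-- The coordinate on the affine open. -/
def Chart.yW (c : Chart B) : Γ(B.V.left, B.π.left ⁻¹ᵁ c.W) := GLinSh.res B.π c.le c.y

variable (B)

theorem exists_chart {x : X.left} {O : X.left.Opens} (hx : x ∈ O) : ∃ c : Chart B, x ∈ c.W ∧ c.W ≤ O := by
  obtain ⟨U, hxU, y, hy⟩ := B.atlas.cover x
  obtain ⟨W, hW, hxW, hle⟩ := exists_isAffineOpen_mem_and_subset (show x ∈ O ⊓ U from ⟨hx, hxU⟩)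
  exact ⟨⟨U, y, hy, W, hW, fun z hz => (hle hz).2⟩, hxW, fun z hz => (hle hz).1⟩

variable {B} (c : Chart B)

theorem Chart.bij : Function.Bijective (Polynomial.eval₂RingHom (B.π.left.app c.W).hom c.yW) :=
  B.atlas.coord c.U c.y c.mem c.W c.affine c.le

theorem Chart.affine' : IsAffineOpen (B.π.left ⁻¹ᵁ c.W) := by
  haveI := B.atlas.affine
  exact c.affine.preimage B.π.left

set_option backward.isDefEq.respectTransparency false in
set_option backward.isDefEq.respectTransparency.types false in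
/-- The section with coordinate one. -/
theorem Chart.exists_section : ∃ (s : sub c.W ⟶ B.V) (h : ⊤ ≤ s.left ⁻¹ᵁ (B.π.left ⁻¹ᵁ c.W)),
    s ≫ B.π = incl c.W ∧ val s.left _ h c.yW = 1 := by
  let E := RingEquiv.ofBijective _ c.bij
  let ev1 : Γ(B.V.left, B.π.left ⁻¹ᵁ c.W) →+* Γ(c.W.toScheme, ⊤) :=
    c.W.topIso.inv.hom.comp ((Polynomial.evalRingHom 1).comp E.symm.toRingHom)
  obtain ⟨z, hz, hzv⟩ := exists_hom_val c.affine' ev1
  have hC : ∀ d, ev1 (B.π.left.app c.W d) = c.W.topIso.inv d := fun d => by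
    have : E.symm (B.π.left.app c.W d) = Polynomial.C d := by
      rw [RingEquiv.symm_apply_eq]
      exact (Polynomial.eval₂_C _ _).symm
    simp [ev1, this]
  have hzπ : z ≫ B.π.left = c.W.ι := by
    refine hom_ext_val c.affine (fun t ht => hz ht) (fun t _ => t.2) fun d => ?_
    rw [← val_app z hz, hzv, hC, val, Scheme.Opens.ι_appLE, Scheme.Opens.topIso_inv]
    rfl
  refine ⟨Over.homMk z (by rw [← Over.w B.π, ← Category.assoc, hzπ]; rfl), hz,
    Over.OverMorphism.ext hzπ, (hzv _).trans ?_⟩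
  have : E.symm c.yW = Polynomial.X := by
    rw [RingEquiv.symm_apply_eq]
    exact (Polynomial.eval₂_X _ _).symm
  simp [ev1, this]

/-- A function is homogeneous of weight `n` on every affine chart. -/
def IsHomog (B : GLinSh.LinBun G a) (n : ℕ) (f : Γ(B.V.left, ⊤)) : Prop :=
  ∀ c : Chart B, ∃ d : Γ(X.left, c.W),
    GLinSh.resTop B.π c.W f = B.π.left.app c.W d * c.yW ^ n

theorem isHomog_of_hasWeight {n : ℕ} {f : Γ(B.V.left, ⊤)} (hf : GLinSh.HasWeight B.atlas.chart n f) :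
    IsHomog B n f := fun c => by
  obtain ⟨e, he⟩ := hf c.U c.y c.mem
  refine ⟨X.left.presheaf.map (homOfLE c.le).op e, ?_⟩
  have h := congrArg (B.V.left.presheaf.map (homOfLE (B.π.left.preimage_mono c.le)).op) he
  rw [map_mul, map_pow] at h
  simp only [GLinSh.resTop, ← CommRingCat.comp_apply, ← Functor.map_comp, Scheme.Hom.naturality] at h ⊢
  exact h

theorem val_appLE {T V W : Scheme.{u}} (z : T ⟶ V) (f : V ⟶ W) {O : W.Opens} {P : V.Opens}
    {e : P ≤ f ⁻¹ᵁ O} (h : ⊤ ≤ z ⁻¹ᵁ P) (r : Γ(W, O)) :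
    val z P h (f.appLE O P e r) = val (z ≫ f) O (fun _ ht => e (h ht)) r := by
  rw [val, val, ← CommRingCat.comp_apply, Scheme.Hom.appLE_comp_appLE]

theorem lands_π {T : Over S} {v : T ⟶ B.V} {U : X.left.Opens} (h : ⊤ ≤ (v ≫ B.π).left ⁻¹ᵁ U) :
    ⊤ ≤ v.left ⁻¹ᵁ (B.π.left ⁻¹ᵁ U) := h

theorem val_congr_over {T : Over S} {Z : Over S} {v v' : T ⟶ Z} (e : v = v') {O : Z.left.Opens}
    (h : ⊤ ≤ v.left ⁻¹ᵁ O) (h' : ⊤ ≤ v'.left ⁻¹ᵁ O) (r : Γ(Z.left, O)) :
    val v.left O h r = val v'.left O h' r := by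
  subst e
  rfl

set_option backward.isDefEq.respectTransparency false in
set_option backward.isDefEq.respectTransparency.types false in
/-- Two points over the same point of a chart are scaled alike by the action. -/
theorem lift_linear {T : Over S} (g : T ⟶ G) (v v' : T ⟶ B.V) (e : v ≫ B.π = v' ≫ B.π)
    (hU : ⊤ ≤ (v ≫ B.π).left ⁻¹ᵁ c.U) {U' : X.left.Opens} {y' : Γ(B.V.left, B.π.left ⁻¹ᵁ U')}
    (hy' : y' ∈ B.atlas.chart U') (hU' : ⊤ ≤ ((lift g v ≫ B.lift.act) ≫ B.π).left ⁻¹ᵁ U') :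
    ∃ (κ : Γ(T.left, ⊤)) (h2 : ⊤ ≤ ((lift g v' ≫ B.lift.act) ≫ B.π).left ⁻¹ᵁ U'),
      val (lift g v ≫ B.lift.act).left _ (lands_π hU') y' = κ * val v.left _ (lands_π hU) c.y ∧
      val (lift g v' ≫ B.lift.act).left _ (lands_π h2) y' =
        κ * val v'.left _ (lands_π (e ▸ hU : ⊤ ≤ (v' ≫ B.π).left ⁻¹ᵁ c.U)) c.y := by
  obtain ⟨C, hC⟩ := B.lift_linear c.U U' c.y y' c.mem hy'
  let dom := a.act.left ⁻¹ᵁ U' ⊓ (snd G X).left ⁻¹ᵁ c.U
  have hbase : ∀ w : T ⟶ B.V, lift g w ≫ (G ◁ B.π) = lift g (w ≫ B.π) := fun w => lift_whiskerLeft _ _ _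
  have hact : ∀ w : T ⟶ B.V, (lift g w ≫ B.lift.act) ≫ B.π = lift g (w ≫ B.π) ≫ a.act := fun w => by
    rw [Category.assoc, B.lift_π, lift_whiskerLeft_assoc]
  have h0 : ∀ (w : T ⟶ B.V), w ≫ B.π = v ≫ B.π →
      ⊤ ≤ (lift g w).left ⁻¹ᵁ GLinSh.liftOpen a B.π c.U U' := by
    intro w hw t _
    refine ⟨?_, ?_⟩
    · show ((lift g w ≫ (G ◁ B.π) ≫ a.act).left) t ∈ U'
      rw [lift_whiskerLeft_assoc, hw, ← hact]
      exact hU' (show t ∈ (⊤ : T.left.Opens) from trivial)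
    · show ((lift g w ≫ (G ◁ B.π) ≫ snd G X).left) t ∈ c.U
      rw [lift_whiskerLeft_assoc, hw, lift_snd]
      exact hU (show t ∈ (⊤ : T.left.Opens) from trivial)
  have hd : ⊤ ≤ (lift g (v ≫ B.π)).left ⁻¹ᵁ dom := fun t ht => by
    have h := GLinSh.liftOpen_le_base a B.π (h0 v rfl ht)
    rw [← hbase]
    exact h
  have h2 : ⊤ ≤ ((lift g v' ≫ B.lift.act) ≫ B.π).left ⁻¹ᵁ U' := by rwa [hact, ← e, ← hact]
  have hgen : ∀ (w : T ⟶ B.V) (hw : w ≫ B.π = v ≫ B.π) (hw' : ⊤ ≤ (w ≫ B.π).left ⁻¹ᵁ c.U)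
      (hw'' : ⊤ ≤ ((lift g w ≫ B.lift.act) ≫ B.π).left ⁻¹ᵁ U'),
      val (lift g w ≫ B.lift.act).left _ (lands_π hw'') y' =
        val (lift g (v ≫ B.π)).left dom hd C * val w.left _ (lands_π hw') c.y := by
    intro w hw hw' hw''
    have key := congrArg (val (lift g w).left _ (h0 w hw)) hC
    rw [val_mul, val_appLE, val_appLE, val_appLE] at key
    have e1 : (lift g w).left ≫ (G ◁ B.π).left = (lift g (v ≫ B.π)).left := by
      rw [← Over.comp_left, hbase, hw]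
    have e2 : (lift g w).left ≫ (snd G B.V).left = w.left := by rw [← Over.comp_left, lift_snd]
    refine key.trans (congrArg₂ (· * ·) ?_ ?_)
    · exact val_congr _ _ e1 hd _
    · exact val_congr _ _ e2 (lands_π hw') _
  exact ⟨_, h2, hgen v rfl hU hU', hgen v' e.symm (e ▸ hU) h2⟩

set_option backward.isDefEq.respectTransparency false in
set_option backward.isDefEq.respectTransparency.types false in
/-- A homogeneous function scales with the coordinate. -/
theorem scale {n : ℕ} {f : Γ(B.V.left, ⊤)} (hf : GLinSh.HasWeight B.atlas.chart n f) {T : Over S} (g : T ⟶ G)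
    (v v' : T ⟶ B.V) (e : v ≫ B.π = v' ≫ B.π) (hU : ⊤ ≤ (v ≫ B.π).left ⁻¹ᵁ c.U) :
    (lift g v ≫ B.lift.act).left.appTop f *
        val v'.left _ (lands_π (e ▸ hU : ⊤ ≤ (v' ≫ B.π).left ⁻¹ᵁ c.U)) c.y ^ n =
      (lift g v' ≫ B.lift.act).left.appTop f * val v.left _ (lands_π hU) c.y ^ n := by
  refine TopCat.Sheaf.eq_of_locally_eq' T.left.sheaf
    (fun q : Σ U' : X.left.Opens, B.atlas.chart U' => ((lift g v ≫ B.lift.act) ≫ B.π).left ⁻¹ᵁ q.1) ⊤
    (fun q => homOfLE le_top) (fun t _ => ?_) _ _ fun q => ?_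
  · obtain ⟨U', htU, y', hy'⟩ := B.atlas.cover (((lift g v ≫ B.lift.act) ≫ B.π).left t)
    exact Opens.mem_iSup.2 ⟨⟨U', y', hy'⟩, htU⟩
  · obtain ⟨U', y', hy'⟩ := q
    let P := ((lift g v ≫ B.lift.act) ≫ B.π).left ⁻¹ᵁ U'
    let j : sub P ⟶ T := incl P
    refine eq_of_ι_appTop P ?_
    change j.left.appTop _ = j.left.appTop _
    have hU1 : ⊤ ≤ ((j ≫ v) ≫ B.π).left ⁻¹ᵁ c.U := fun t _ => hU (show j.left t ∈ (⊤ : T.left.Opens) from trivial)
    have hU2 : ⊤ ≤ ((lift (j ≫ g) (j ≫ v) ≫ B.lift.act) ≫ B.π).left ⁻¹ᵁ U' := fun t _ => by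
      rw [← comp_lift, Category.assoc, Category.assoc]
      exact t.2
    obtain ⟨κ, h2, k1, k2⟩ := lift_linear c (j ≫ g) (j ≫ v) (j ≫ v')
      (by rw [Category.assoc, Category.assoc, e]) hU1 hy' hU2
    obtain ⟨ce, hce⟩ := hf U' y' hy'
    have hp : ∀ (w : sub P ⟶ B.V) (hw : ⊤ ≤ (w ≫ B.π).left ⁻¹ᵁ U'),
        w.left.appTop f = val (w ≫ B.π).left U' hw ce * val w.left _ (lands_π hw) y' ^ n := fun w hw => by
      rw [← val_resTop w.left (lands_π hw) f]
      change val w.left _ (lands_π hw) (GLinSh.resTop B.π U' f) = _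
      rw [hce, val_mul, val_pow, val_app]
      rfl
    have hpush : ∀ (w : T ⟶ B.V), j.left.appTop ((lift g w ≫ B.lift.act).left.appTop f) =
        (lift (j ≫ g) (j ≫ w) ≫ B.lift.act).left.appTop f := fun w => by
      rw [← CommRingCat.comp_apply, ← Scheme.Hom.comp_appTop, ← Over.comp_left, ← Category.assoc, comp_lift]
    have hval : ∀ (w : T ⟶ B.V) (hw : ⊤ ≤ (w ≫ B.π).left ⁻¹ᵁ c.U) (hw' : ⊤ ≤ ((j ≫ w) ≫ B.π).left ⁻¹ᵁ c.U),
        j.left.appTop (val w.left _ (lands_π hw) c.y) = val (j ≫ w).left _ (lands_π hw') c.y :=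
      fun w hw hw' => (val_comp w.left (lands_π hw) j.left _ _).symm
    have hbb : ((lift (j ≫ g) (j ≫ v) ≫ B.lift.act) ≫ B.π) = ((lift (j ≫ g) (j ≫ v') ≫ B.lift.act) ≫ B.π) := by
      simp only [Category.assoc, B.lift_π, lift_whiskerLeft_assoc, e]
    rw [map_mul, map_mul, map_pow, map_pow, hpush, hpush, hp _ hU2, hp _ h2, k1, k2,
      val_congr_over hbb hU2 h2 ce, hval v hU hU1,
      hval v' (e ▸ hU) (fun t _ => (e ▸ hU : ⊤ ≤ (v' ≫ B.π).left ⁻¹ᵁ c.U) (show j.left t ∈ (⊤ : T.left.Opens) from trivial))]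
    ring

variable {M : Type} [AddCommMonoid M] (j : AMonS S M ⟶ G) [IsMonHom j]

set_option backward.isDefEq.respectTransparency.types false in
/-- Eigencomponents of homogeneous functions are homogeneous. -/
theorem isHomog_component [CompactSpace B.V.left] [B.V.left.IsSeparated] {n : ℕ} {f : Γ(B.V.left, ⊤)}
    (hf : GLinSh.HasWeight B.atlas.chart n f) (b : MonoidAlgebra (RR B.V) (Multiplicative M))
    (hb : theta M B.V b = ((j ▷ B.V) ≫ B.lift.act).left.appTop f) (m : Multiplicative M) :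
    IsHomog B n (b.coeff m) := by
  intro c
  obtain ⟨s, hs, hsπ, hs1⟩ := c.exists_section
  let P := B.π.left ⁻¹ᵁ c.W
  let q : sub P ⟶ sub c.W := Over.homMk (B.π.left ∣_ c.W) (by
    show (B.π.left ∣_ c.W) ≫ c.W.ι ≫ X.hom = P.ι ≫ B.V.hom
    rw [← Category.assoc, morphismRestrict_ι, Category.assoc, Over.w])
  let i : sub P ⟶ B.V := incl P
  let r : sub P ⟶ B.V := q ≫ s
  have hiπ : q ≫ incl c.W = i ≫ B.π := Over.OverMorphism.ext (morphismRestrict_ι _ _)
  have hrπ : r ≫ B.π = i ≫ B.π := by rw [Category.assoc, hsπ, hiπ]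
  let A := AMonS S M
  let T := A ⊗ sub P
  have hU : ⊤ ≤ ((snd A (sub P) ≫ i) ≫ B.π).left ⁻¹ᵁ c.U := fun t _ => c.le ((snd A (sub P)).left t).2
  have hU' : ⊤ ≤ ((snd A (sub P) ≫ r) ≫ B.π).left ⁻¹ᵁ c.U := by rw [Category.assoc, hrπ, ← Category.assoc]; exact hU
  have hiP : ⊤ ≤ i.left ⁻¹ᵁ P := fun t _ => t.2
  have hrP : ⊤ ≤ r.left ⁻¹ᵁ P := fun t _ => hs (show q.left t ∈ (⊤ : (sub c.W).left.Opens) from trivial)
  have hy : ∀ (w : sub P ⟶ B.V) (hw : ⊤ ≤ w.left ⁻¹ᵁ P) (hw' : ⊤ ≤ ((snd A (sub P) ≫ w) ≫ B.π).left ⁻¹ᵁ c.U),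
      val (snd A (sub P) ≫ w).left _ (lands_π hw') c.y = (snd A (sub P)).left.appTop (val w.left P hw c.yW) := by
    intro w hw hw'
    have hw2 : ⊤ ≤ w.left ⁻¹ᵁ (B.π.left ⁻¹ᵁ c.U) := fun t ht => c.le (hw ht : (B.π.left (w.left t)) ∈ c.W)
    rw [Chart.yW, GLinSh.res, val_res w.left hw2]
    exact val_comp w.left hw2 (snd A (sub P)).left _ _
  have hr1 : val r.left P hrP c.yW = 1 := (val_comp s.left hs q.left _ _).trans (by rw [hs1, map_one])
  have hθ : ∀ w : sub P ⟶ B.V, (lift (fst A (sub P) ≫ j) (snd A (sub P) ≫ w) ≫ B.lift.act).left.appTop f =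
      theta M (sub P) (MonoidAlgebra.mapRingHom _ w.left.appTop.hom b) := fun w => by
    rw [← theta_whisker_apply, hb, ← CommRingCat.comp_apply, ← Scheme.Hom.comp_appTop, ← Over.comp_left,
      ← Category.assoc]
    congr 4
    congr 1
    apply CartesianMonoidalCategory.hom_ext <;> simp [A]
  have h := scale c hf (fst A (sub P) ≫ j) (snd A (sub P) ≫ i) (snd A (sub P) ≫ r)
    (by rw [Category.assoc, Category.assoc, hrπ]) hU
  rw [hθ, hθ, hy i hiP hU, hy r hrP hU', hr1, map_one, one_pow, _root_.mul_one, ← map_pow,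
    show ∀ z, (snd A (sub P)).left.appTop z = theta M (sub P) (MonoidAlgebra.single 1 z) from fun z => by
      rw [theta_single, map_one, _root_.mul_one],
    ← map_mul] at h
  have h2 := congrArg (fun z => z.coeff m) (theta_injective (sub P) h)
  simp only [coeff_mapRingHom', MonoidAlgebra.mul_single_one_apply, MonoidAlgebra.coeff_mul_single_one] at h2
  refine ⟨c.W.topIso.hom (s.left.appTop (b.coeff m)), ?_⟩
  have hi : ∀ z : Γ(B.V.left, P), i.left.appLE P ⊤ hiP z = P.topIso.inv z := fun z => by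
    show P.ι.appLE P ⊤ _ z = _
    rw [Scheme.Opens.ι_appLE, Scheme.Opens.topIso_inv]
    rfl
  apply (ConcreteCategory.bijective_of_isIso P.topIso.inv).1
  rw [← hi, ← hi]
  change val i.left P hiP _ = val i.left P hiP _
  rw [GLinSh.resTop, val_resTop, val_mul, val_pow, val_app]
  refine h2.trans ?_
  congr 1
  change r.left.appTop (b.coeff m) = _
  rw [Over.comp_left, Scheme.Hom.comp_appTop, CommRingCat.comp_apply]
  have hq : ⊤ ≤ (q.left ≫ c.W.ι) ⁻¹ᵁ c.W := fun t _ => (q.left t).2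
  refine Eq.trans ?_ (val_congr (q.left ≫ c.W.ι) hq (congrArg Over.Hom.left hiπ) hiP _)
  rw [val_comp c.W.ι (fun t _ => t.2)]
  congr 1
  refine Eq.trans ?_ (congrArg (fun t => t (c.W.topIso.hom (s.left.appTop (b.coeff m)))) (ι_appLE_topIso c.W)).symm
  exact (CommRingCat.comp_apply _ _ _).symm.trans (by rw [Iso.hom_inv_id]; rfl) |>.symm

end Groth.Agent.TorusMu
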